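import Groth.Agent.EtAdic.K810.Bgm
import Groth.Agent.S8054

/-!
# Abelian subvarieties are direct factors up to isogeny
-/

set_option autoImplicit false
universe u

open CategoryTheory CategoryTheory.Limits MonoidalCategory CartesianMonoidalCategory MonObj GrpObj AlgebraicGeometry

namespace K810.Bab

open Groth.Agent.Sga3.H739.Fpqc Groth.Agent.Sga3.H739.KerPts K810.Ex K810.Step
open Groth.Agent Groth.Agent.Books.AlgPts Groth.Agent.Books.AlgPtsGrp

variable {k : Type u} [Field k] [IsAlgClosed k]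

omit [IsAlgClosed k] in
theorem exists_isog {K G : Over (Spec (CommRingCat.of k))} [GrpObj K] [GrpObj G] [GVar K] [GVar G]
    (i : K ⟶ G) [IsMonHom i] [IsClosedImmersion i.left] [IsProper K.hom] :
    ∃ (B : Over (Spec (CommRingCat.of k))) (_ : GrpObj B) (q : G ⟶ B), GVar B ∧ IsMonHom q ∧
      SGA7.IsIsogenyOver (i ≫ q) := by
  obtain ⟨N, _, j, hj1, hj2, hj3, hj4, hj5, hj6, hj7, -⟩ := Groth.Agent.S8054.result k G K i
  obtain ⟨B, _, q, hB, hq⟩ := exists_quot j hj3
  have hqm := hq.hπ
  have hqs := hq.surj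
  have hmj := mono_of_ci j
  have hmi := mono_of_ci i
  have hcomp : ((i ⊗ₘ j) ≫ μ[G]) ≫ q = fst K N ≫ i ≫ q := by
    have h1 : (i ⊗ₘ j) ≫ μ[G] = (fst K N ≫ i) * (snd K N ≫ j) := rfl
    have h2 : j ≫ q = 1 := by rw [hq.ker.w]; rfl
    rw [h1, MonObj.mul_comp, Category.assoc, Category.assoc, h2, MonObj.comp_one, _root_.mul_one]
  refine ⟨B, inferInstance, q, hB, hqm, ?_, fun N' i' hi' => ?_⟩
  · have h1 : Surjective (((i ⊗ₘ j) ≫ μ[G]) ≫ q).left := by
      rw [Over.comp_left]
      infer_instance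
    rw [hcomp, Over.comp_left] at h1
    exact Surjective.of_comp (fst K N).left (i ≫ q).left
  · obtain ⟨c, hc⟩ := exists_lift hq.ker (i' ≫ i) (by
      rw [Category.assoc, hi'.w]
      rfl)
    have hmi' : Mono i' := ⟨fun a b h => hi'.hom_ext h (toUnit_unique _ _)⟩
    have hpb : IsPullback i' c i j := by
      refine ⟨⟨hc.symm⟩, ⟨PullbackCone.IsLimit.mk _ (fun s => hi'.lift s.fst (toUnit _) (by
        rw [← Category.assoc, s.condition, Category.assoc, hq.ker.w, ← Category.assoc, comp_toUnit])) ?_ ?_ ?_⟩⟩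
      · intro s
        exact hi'.lift_fst _ _ _
      · intro s
        rw [← cancel_mono j, Category.assoc, hc, ← Category.assoc, hi'.lift_fst, s.condition]
      · intro s m h1 _
        rw [← cancel_mono i', h1, hi'.lift_fst]
    have hpb' : IsPullback i'.left c.left i.left j.left := hpb.map (Over.forget _)
    have h3 : N'.hom = (hpb'.isoPullback).hom ≫ Limits.pullback.fst i.left j.left ≫ K.hom := by
      rw [hpb'.isoPullback_hom_fst_assoc, Over.w]
    rw [h3]
    infer_instance

end K810.Bab
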