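import Groth.Agent.Sga3.H739.PerrinSetup
import Groth.Agent.Sga3.H794.ChevInd
import Groth.Agent.Sga3.H794.RedIdNormal
import Groth.Agent.Sga3.H821.AffProper
import Groth.Agent.Sga7.H758.FieldHom
import Groth.Agent.Sga7.H109.Basic
import Groth.Agent.S7983

/-!
# Exact sequences of group varieties over a field
-/

set_option autoImplicit false
universe u

open CategoryTheory CategoryTheory.Limits MonoidalCategory CartesianMonoidalCategory MonObj GrpObj AlgebraicGeometry

namespace K810.Ex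

open Groth.Agent.Sga3.H739.Fpqc Groth.Agent.Sga3.H739.KerPts Groth.Agent.Sga3.H739.ImageFl
  Groth.Agent.Sga3.H739.PerrinSetup

variable {k : Type u} [Field k]

/-- A group variety: smooth, connected, of finite type. -/
class GVar (G : Over (Spec (CommRingCat.of k))) [GrpObj G] : Prop where
  smooth : Smooth G.hom
  qc : QuasiCompact G.hom
  conn : ConnectedSpace G.left

attribute [instance] GVar.smooth GVar.qc GVar.conn

/-- An exact sequence `e ⟶ K ⟶ G ⟶ Q ⟶ e` of group schemes. -/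
structure Seq {K G Q : Over (Spec (CommRingCat.of k))} [GrpObj K] [GrpObj G] [GrpObj Q]
    (i : K ⟶ G) (π : G ⟶ Q) : Prop where
  hi : IsMonHom i
  ci : IsClosedImmersion i.left
  hπ : IsMonHom π
  flat : Flat π.left
  surj : Surjective π.left
  ker : AlgGrp.IsKernel i π

variable {K G Q : Over (Spec (CommRingCat.of k))} [GrpObj K] [GrpObj G] [GrpObj Q]

theorem isSeparated (G : Over (Spec (CommRingCat.of k))) [GrpObj G] : IsSeparated G.hom :=
  Groth.Agent.Sga7.H109.Basic.isSeparated_hom G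

theorem mono_of_ci {X Y : Over (Spec (CommRingCat.of k))} (i : X ⟶ Y) [IsClosedImmersion i.left] : Mono i :=
  (Over.forget _).mono_of_mono_map (inferInstanceAs (Mono i.left))

theorem noeth (G : Over (Spec (CommRingCat.of k))) [GrpObj G] [GVar G] : IsLocallyNoetherian G.left :=
  LocallyOfFiniteType.isLocallyNoetherian G.hom

theorem qc_left {X Y : Over (Spec (CommRingCat.of k))} [GrpObj Y] (f : X ⟶ Y) [QuasiCompact X.hom] :
    QuasiCompact f.left := by
  have := isSeparated Y
  have h1 : QuasiCompact (f.left ≫ Y.hom) := by rw [Over.w]; infer_instance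
  exact QuasiCompact.of_comp f.left Y.hom

theorem lfp_left {X Y : Over (Spec (CommRingCat.of k))} (f : X ⟶ Y) [LocallyOfFiniteType X.hom]
    [LocallyOfFiniteType Y.hom] : LocallyOfFinitePresentation f.left := by
  have h1 : LocallyOfFiniteType (f.left ≫ Y.hom) := by rw [Over.w]; infer_instance
  have h2 : LocallyOfFiniteType f.left := locallyOfFiniteType_of_comp f.left Y.hom
  have : IsLocallyNoetherian Y.left := LocallyOfFiniteType.isLocallyNoetherian Y.hom
  infer_instance

/-- The middle and the kernel being group varieties, the quotient is one. -/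
theorem gvar_quot [GVar G] (π : G ⟶ Q) [IsMonHom π] [Flat π.left] [Surjective π.left]
    [LocallyOfFiniteType Q.hom] : GVar Q := by
  have hq : QuasiCompact Q.hom := Groth.Agent.Sga3.H794.ChevAff.quasiCompact_of_surjective π
  obtain ⟨-, h2, h3⟩ := Groth.Agent.S7983.result k G Q π
  exact ⟨h2 inferInstance, hq, h3 inferInstance⟩

/-- Quotients of group varieties by normal closed subgroups. -/
theorem exists_quot [GVar G] (i : K ⟶ G) [IsMonHom i] [IsClosedImmersion i.left]
    (hn : AlgGrp.IsNormalHom i) :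
    ∃ (Q : Over (Spec (CommRingCat.of k))) (_ : GrpObj Q) (π : G ⟶ Q), GVar Q ∧ Seq i π := by
  have hm := mono_of_ci i
  have hK : LocallyOfFiniteType K.hom := by rw [← Over.w i]; infer_instance
  obtain ⟨Q, hQ, π, h1, h2, h3, h4, h5, h6, h7, h8⟩ := Groth.Agent.S3030.result k K G i hn
  have h9 : Smooth Q.hom := h8 inferInstance
  exact ⟨Q, hQ, π, gvar_quot π, ⟨inferInstance, inferInstance, h1, h2, h3, h5⟩⟩

theorem Seq.cov {i : K ⟶ G} {π : G ⟶ Q} [GVar G] (h : Seq i π) : Cov π :=
  ⟨h.flat, h.surj, qc_left π⟩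

theorem Seq.normal {i : K ⟶ G} {π : G ⟶ Q} (h : Seq i π) : AlgGrp.IsNormalHom i :=
  have := h.hπ
  Groth.Agent.Sga3.H794.ChevKer.isNormalHom_ker i π h.ker

/-- The image of a homomorphism of group varieties. -/
theorem exists_im [GVar G] [LocallyOfFiniteType Q.hom] (u : G ⟶ Q) [IsMonHom u] :
    ∃ (C : Over (Spec (CommRingCat.of k))) (_ : GrpObj C) (p : G ⟶ C) (i : C ⟶ Q), GVar C ∧ IsMonHom p ∧
      IsMonHom i ∧ p ≫ i = u ∧ Cov p ∧ IsClosedImmersion i.left := by
  have : IsLocallyNoetherian Q.left := LocallyOfFiniteType.isLocallyNoetherian Q.hom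
  have := qc_left u
  obtain ⟨C, hC, p, i, h1, h2, h3, h4, h5⟩ := exists_image u
  have h6 : LocallyOfFiniteType C.hom := by rw [← Over.w i]; infer_instance
  have h7 := h4.flat
  have h8 := h4.surj
  exact ⟨C, hC, p, i, gvar_quot p, h1, h2, h3, h4, h5⟩

/-- **Third isomorphism theorem.** -/
theorem exists_third {K₁ : Over (Spec (CommRingCat.of k))} [GrpObj K₁] [GVar K] [GVar G] [GVar Q]
    {i : K ⟶ G} {π : G ⟶ Q} (h : Seq i π) (j : K₁ ⟶ K) [IsMonHom j] [IsClosedImmersion j.left]
    (hn : AlgGrp.IsNormalHom (j ≫ i)) :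
    ∃ (K₂ G₁ : Over (Spec (CommRingCat.of k))) (_ : GrpObj K₂) (_ : GrpObj G₁) (p : K ⟶ K₂) (q : G ⟶ G₁)
      (i' : K₂ ⟶ G₁) (π' : G₁ ⟶ Q), GVar K₂ ∧ GVar G₁ ∧ Seq j p ∧ Seq (j ≫ i) q ∧ Seq i' π' := by
  obtain ⟨hi, ci, hπ, hfl, hs, hker⟩ := h
  have hmi := mono_of_ci i
  have hmj := mono_of_ci j
  have hcomp : IsClosedImmersion (j ≫ i).left := by rw [Over.comp_left]; infer_instance
  obtain ⟨G₁, hG₁, q, hG₁v, hq⟩ := exists_quot (j ≫ i) hn
  have hqm := hq.hπ
  obtain ⟨K₂, hK₂, p, i', hK₂v, hp1, hp2, hp3, hp4, hp5⟩ := exists_im (i ≫ q)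
  have hmi' := mono_of_ci i'
  have hlfp := lfp_left q
  have hqf := hq.flat
  have hqs := hq.surj
  -- `j` is the kernel of `p`
  have hjp : Seq j p := by
    refine ⟨inferInstance, inferInstance, hp1, hp4.flat, hp4.surj, ?_⟩
    refine isPullback_of_pts ?_ fun {T} x hx => ?_
    · rw [← cancel_mono i', Category.assoc, hp3, Category.assoc, IsMonHom.one_hom, ← Category.assoc]
      exact hq.ker.w
    · obtain ⟨a, ha⟩ := exists_lift hq.ker (x ≫ i) (by
        rw [Category.assoc, ← hp3, ← Category.assoc, hx, MonObj.one_comp])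
      refine ⟨a, ?_⟩
      rw [← cancel_mono i, Category.assoc]
      exact ha
  -- descent of `π`
  obtain ⟨π', hπ'1, hπ'2⟩ := Groth.Agent.Sga3.H794.ChevKer.exists_desc_hom (j ≫ i) q hq.ker π (by
    rw [Category.assoc, show i ≫ π = 1 by rw [hker.w]; rfl, MonObj.comp_one])
  have hcq := hq.cov
  have hcπ : Cov π := ⟨hfl, hs, qc_left π⟩
  have hcπ' : Cov π' := hcq.of_comp (by rw [hπ'2]; exact hcπ)
  refine ⟨K₂, G₁, hK₂, hG₁, p, q, i', π', hK₂v, hG₁v, hjp, hq, hp2, hp5, hπ'1, hcπ'.flat, hcπ'.surj, ?_⟩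
  refine isPullback_of_pts ?_ fun {T} x hx => ?_
  · refine hp4.cancel ?_
    rw [← Category.assoc, hp3, Category.assoc, hπ'2, hker.w, ← Category.assoc, comp_toUnit]
  · obtain ⟨T', t, x', ht, hx'⟩ := hcq.exists_local x
    obtain ⟨a, ha⟩ := exists_lift hker x' (by
      rw [← hπ'2, ← Category.assoc, hx', Category.assoc, hx, MonObj.comp_one])
    exact ht.exists_lift_of_mono i' x (a ≫ p) (by
      rw [Category.assoc, hp3, ← Category.assoc, ha, hx'])

end K810.Ex
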