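import Groth.Agent.EtAdic.K810.Step

/-!
# The derived subgroup of a nilpotent group variety
-/

set_option autoImplicit false
universe u

open CategoryTheory CategoryTheory.Limits MonoidalCategory CartesianMonoidalCategory MonObj GrpObj AlgebraicGeometry

namespace K810.Derived

open Groth.Agent.Sga3.H739.Fpqc Groth.Agent.Sga3.H739.KerPts K810.Ex K810.Step
open Groth.Agent Groth.Agent.Books.AlgPts Groth.Agent.Books.AlgPtsGrp

theorem isCommMonObj_of_comm {C : Type*} [Category C] [CartesianMonoidalCategory C] [BraidedCategory C] {X : C}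
    [GrpObj X] (h : (fst X X) * (snd X X) = (snd X X) * (fst X X)) : IsCommMonObj X := by
  refine ⟨?_⟩
  have h1 : (fst X X) * (snd X X) = μ[X] := by
    rw [Hom.mul_def, lift_fst_snd, Category.id_comp]
  have h2 : (snd X X) * (fst X X) = (β_ X X).hom ≫ μ[X] := by
    rw [Hom.mul_def]
    congr 1
    apply CartesianMonoidalCategory.hom_ext <;> simp
  rw [← h2, ← h, h1]

variable {k : Type u} [Field k] [IsAlgClosed k]
variable {K : Over (Spec (CommRingCat.of k))} [GrpObj K] [GVar K]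

/-- Commutativity can be checked on rational points. -/
theorem isCommMonObj_of_pts (h : ∀ a b : 𝟙_ (Over (Spec (CommRingCat.of k))) ⟶ K, a * b = b * a) :
    IsCommMonObj K := by
  have := isSeparated K
  have hsm : Smooth (K ⊗ K).hom := by
    rw [Over.tensorObj_hom]
    infer_instance
  have hred : IsReduced (K ⊗ K).left := Groth.Agent.Books.AlgPtsSmooth.isReduced_of_smooth (K ⊗ K)
  refine isCommMonObj_of_comm ?_
  refine Groth.Agent.Sga3B.RG.BrPts.hom_ext_of_points _ _ fun x => ?_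
  rw [MonObj.comp_mul, MonObj.comp_mul, h]

/-- The commutator morphism. -/
noncomputable def comm (K : Over (Spec (CommRingCat.of k))) [GrpObj K] : K ⊗ K ⟶ K :=
  fst K K * snd K K * (fst K K)⁻¹ * (snd K K)⁻¹

omit [IsAlgClosed k] [GVar K] in
theorem comp_comm {T : Over (Spec (CommRingCat.of k))} (x : T ⟶ K ⊗ K) :
    x ≫ comm K = (x ≫ fst K K) * (x ≫ snd K K) * (x ≫ fst K K)⁻¹ * (x ≫ snd K K)⁻¹ := by
  rw [comm, MonObj.comp_mul, MonObj.comp_mul, MonObj.comp_mul, GrpObj.comp_inv, GrpObj.comp_inv]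

theorem exists_comm_factor {D : Over (Spec (CommRingCat.of k))} (d : D ⟶ K) [IsClosedImmersion d.left]
    (hd4 : Set.range (fun d' : 𝟙_ (Over (Spec (CommRingCat.of k))) ⟶ D => d' ≫ d) =
        ((commutator (𝟙_ (Over (Spec (CommRingCat.of k))) ⟶ K) : Subgroup (𝟙_ (Over (Spec (CommRingCat.of k))) ⟶ K)) :
          Set (𝟙_ (Over (Spec (CommRingCat.of k))) ⟶ K))) :
    ∃ c₁ : K ⊗ K ⟶ D, c₁ ≫ d = comm K := by
  have hsm : Smooth (K ⊗ K).hom := by
    rw [Over.tensorObj_hom]
    infer_instance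
  have hred : IsReduced (K ⊗ K).left := Groth.Agent.Books.AlgPtsSmooth.isReduced_of_smooth (K ⊗ K)
  have hlft : LocallyOfFiniteType (K ⊗ K).hom := inferInstance
  refine Groth.Agent.Sga3B.RG.BrPts.exists_factor d (comm K) fun x => ?_
  have h2 : x ≫ comm K ∈
      Set.range (fun d' : 𝟙_ (Over (Spec (CommRingCat.of k))) ⟶ D => d' ≫ d) := by
    rw [hd4, SetLike.mem_coe, comp_comm]
    exact Subgroup.commutator_mem_commutator (Subgroup.mem_top (x ≫ fst K K)) (Subgroup.mem_top (x ≫ snd K K))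
  obtain ⟨n, hn⟩ := h2
  exact ⟨n, hn⟩

omit [IsAlgClosed k] [GVar K] in
theorem isCommMonObj_of_comm_eq_one (h5 : comm K = 1) : IsCommMonObj K := by
  refine isCommMonObj_of_comm ?_
  have h6 : fst K K * snd K K * (fst K K)⁻¹ = snd K K := eq_of_mul_inv_eq_one h5
  exact mul_inv_eq_iff_eq_mul.mp h6

theorem isCommMonObj_of_trivial {D D₀ : Over (Spec (CommRingCat.of k))} [GrpObj D] [GrpObj D₀] (d : D ⟶ K)
    (m : D₀ ⟶ D) [IsMonHom d] [IsClosedImmersion d.left] [IsMonHom m] [IsClosedImmersion m.left]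
    (hm5 : Set.range m.left = connectedComponent (pt η[D]))
    (hd4 : Set.range (fun d' : 𝟙_ (Over (Spec (CommRingCat.of k))) ⟶ D => d' ≫ d) =
        ((commutator (𝟙_ (Over (Spec (CommRingCat.of k))) ⟶ K) : Subgroup (𝟙_ (Over (Spec (CommRingCat.of k))) ⟶ K)) :
          Set (𝟙_ (Over (Spec (CommRingCat.of k))) ⟶ K))) (hiso : IsIso D₀.hom) : IsCommMonObj K := by
  have hmd := mono_of_ci d
  have h1 : IsIso (toUnit D₀) := by
    have : IsIso (toUnit D₀).left := by rw [Over.toUnit_left]; exact hiso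
    exact isIso_of_left _
  have hirr := Groth.Agent.Sga3.H794.RedIdNormal.irreducibleSpace_tensor K K
  have hredt := Groth.Agent.Sga3.H794.RedIdNormal.isReduced_tensor K K
  obtain ⟨c₁, hc₁⟩ := exists_comm_factor d hd4
  have hη : lift η[K] η[K] ≫ c₁ = η[D] := by
    rw [← cancel_mono d, Category.assoc, hc₁, IsMonHom.one_hom, comp_comm]
    have : (η[K] : 𝟙_ (Over (Spec (CommRingCat.of k))) ⟶ K) = 1 := by
      rw [Hom.one_def, toUnit_unique (toUnit (𝟙_ _)) (𝟙 _), Category.id_comp]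
    rw [lift_fst, lift_snd, this, inv_one, _root_.mul_one, _root_.mul_one, _root_.mul_one]
  obtain ⟨c₂, hc₂⟩ := Groth.Agent.Books.AlgPtsGrp.exists_lift m c₁ (by
    rw [hm5]
    refine (isPreconnected_range c₁.left.continuous).subset_connectedComponent ?_
    rw [← hη, pt_comp]
    exact ⟨_, rfl⟩)
  have h4 : c₂ = 1 := by
    rw [← cancel_mono (toUnit D₀)]
    exact toUnit_unique _ _
  refine isCommMonObj_of_comm_eq_one ?_
  rw [← hc₁, ← hc₂, h4, MonObj.one_comp, MonObj.one_comp]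

/-- **The derived subgroup.** -/
theorem exists_derived [IsAffine K.left] (hnil : Group.IsNilpotent (𝟙_ (Over (Spec (CommRingCat.of k))) ⟶ K))
    (hnc : ¬ IsCommMonObj K) :
    ∃ (D D₀ : Over (Spec (CommRingCat.of k))) (_ : GrpObj D) (_ : GrpObj D₀) (d : D ⟶ K) (m : D₀ ⟶ D),
      GVar D₀ ∧ IsMonHom d ∧ IsClosedImmersion d.left ∧ Smooth D.hom ∧ IsMonHom m ∧ IsClosedImmersion m.left ∧
      Set.range m.left = connectedComponent (pt η[D]) ∧
      (∀ γ : K ≅ K, IsMonHom γ.hom → ∃ φ : D ⟶ D, φ ≫ d = d ≫ γ.hom) ∧ ¬ IsIso D₀.hom ∧ ¬ IsIso (m ≫ d) := by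
  obtain ⟨D, _, d, hd1, hd2, hd3, hd4⟩ := (Groth.Agent.S3283.result k K).1
  have hmd := mono_of_ci d
  have hDl : LocallyOfFiniteType D.hom := inferInstance
  obtain ⟨D₀, _, m, hm1, hm2, hm3, hm4, hm5⟩ := Groth.Agent.Sga3B.RedIdComp.exists_redIdComp D
  have hDq : QuasiCompact D.hom := by rw [← Over.w d]; infer_instance
  have hD₀q : QuasiCompact D₀.hom := by rw [← Over.w m]; infer_instance
  have hD₀v : GVar D₀ := ⟨hm3, hD₀q, hm4⟩
  refine ⟨D, D₀, ‹_›, ‹_›, d, m, hD₀v, hd1, hd2, hd3, hm1, hm2, hm5, ?_, ?_, ?_⟩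
  · intro γ hγ
    have hred := Groth.Agent.Books.AlgPtsSmooth.isReduced_of_smooth D
    refine Groth.Agent.Sga3B.RG.BrPts.exists_factor d (d ≫ γ.hom) fun x => ?_
    have h1 : x ≫ d ∈ commutator (𝟙_ (Over (Spec (CommRingCat.of k))) ⟶ K) := by
      rw [← SetLike.mem_coe, ← hd4]
      exact ⟨x, rfl⟩
    let f : (𝟙_ (Over (Spec (CommRingCat.of k))) ⟶ K) →* (𝟙_ (Over (Spec (CommRingCat.of k))) ⟶ K) :=
      { toFun := fun y => y ≫ γ.hom
        map_one' := MonObj.one_comp _
        map_mul' := fun a b => MonObj.mul_comp _ _ _ }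
    have h2 : f (x ≫ d) ∈ commutator (𝟙_ (Over (Spec (CommRingCat.of k))) ⟶ K) := by
      have h3 : (commutator (𝟙_ (Over (Spec (CommRingCat.of k))) ⟶ K)).map f ≤
          commutator (𝟙_ (Over (Spec (CommRingCat.of k))) ⟶ K) := by
        rw [commutator_def, Subgroup.map_commutator]
        exact Subgroup.commutator_mono le_top le_top
      exact h3 ⟨_, h1, rfl⟩
    rw [← SetLike.mem_coe, ← hd4] at h2
    obtain ⟨y, hy⟩ := h2
    exact ⟨y, by simpa [f] using hy⟩
  · exact fun hiso => hnc (isCommMonObj_of_trivial d m hm5 hd4 hiso)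
  · intro hiso
    apply hnc
    have h1 : commutator (𝟙_ (Over (Spec (CommRingCat.of k))) ⟶ K) = ⊤ := by
      rw [eq_top_iff]
      intro x _
      rw [← SetLike.mem_coe, ← hd4]
      refine ⟨x ≫ inv (m ≫ d) ≫ m, ?_⟩
      change (x ≫ inv (m ≫ d) ≫ m) ≫ d = x
      rw [Category.assoc, Category.assoc, IsIso.inv_hom_id, Category.comp_id]
    by_cases hnt : Nontrivial (𝟙_ (Over (Spec (CommRingCat.of k))) ⟶ K)
    · exact absurd h1 (Group.IsSolvable.commutator_lt_top_of_nontrivial _).ne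
    · rw [not_nontrivial_iff_subsingleton] at hnt
      exact isCommMonObj_of_pts fun a b => Subsingleton.elim _ _

end K810.Derived
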