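import Groth.Agent.EtAdic.K810.Basic
import Groth.Agent.Red.K979.Semi

/-!
# Two exact sequences attached to a subgroup which surjects onto the quotient

Let `e ⟶ K ⟶ G ⟶ Q ⟶ e` be exact and `M ⊆ G` a subgroup mapping onto `Q`, `I = K ∩ M`. The semidirect product
`H = K ⋊ M` is an extension of `M` by `K`, split as an extension of schemes over `K`, and an extension of `G` by `I`;
moreover `M` is an extension of `Q` by `I`.
-/

set_option autoImplicit false
universe u

open CategoryTheory CategoryTheory.Limits MonoidalCategory CartesianMonoidalCategory MonObj GrpObj AlgebraicGeometry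

namespace K810.Trick

open Groth.Agent.Sga3.H739.Fpqc Groth.Agent.Sga3.H739.KerPts K810.Ex

section cat

variable {C : Type*} [Category C] [CartesianMonoidalCategory C]

theorem isMonHom_of_pts {X Y : C} [GrpObj X] [GrpObj Y] (f : X ⟶ Y)
    (h : ∀ (T : C) (x y : T ⟶ X), (x * y) ≫ f = (x ≫ f) * (y ≫ f)) : IsMonHom f := by
  have h1 : ∀ T : C, (1 : T ⟶ X) ≫ f = 1 := fun T => by
    have h2 := h T 1 1
    rw [_root_.mul_one] at h2
    exact (mul_eq_left.1 h2.symm)
  refine ⟨?_, ?_⟩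
  · rw [one_eq_one, h1, one_eq_one]
  · have h3 := h (X ⊗ X) (fst X X) (snd X X)
    have h4 : fst X X * snd X X = μ[X] := by rw [Hom.mul_def, lift_fst_snd, Category.id_comp]
    have h5 : (fst X X ≫ f) * (snd X X ≫ f) = (f ⊗ₘ f) ≫ μ[Y] := by
      rw [Hom.mul_def]
      congr 1
      ext1 <;> simp
    rw [h4, h5] at h3
    exact h3

section semi

variable {K M P : C} [GrpObj K] [GrpObj M] [GrpObj P] {e : P ≅ K ⊗ M} {act : M ⊗ K ⟶ K}
  (hmul : ∀ (T : C) (a b : T ⟶ P), (a * b) ≫ e.hom =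
    lift ((a ≫ e.hom ≫ fst K M) * (lift (a ≫ e.hom ≫ snd K M) (b ≫ e.hom ≫ fst K M) ≫ act))
      ((a ≫ e.hom ≫ snd K M) * (b ≫ e.hom ≫ snd K M)))

include hmul

theorem mul_fst (T : C) (a b : T ⟶ P) : (a * b) ≫ e.hom ≫ fst K M =
    (a ≫ e.hom ≫ fst K M) * (lift (a ≫ e.hom ≫ snd K M) (b ≫ e.hom ≫ fst K M) ≫ act) := by
  rw [← Category.assoc, hmul, lift_fst]

theorem mul_snd (T : C) (a b : T ⟶ P) : (a * b) ≫ e.hom ≫ snd K M =
    (a ≫ e.hom ≫ snd K M) * (b ≫ e.hom ≫ snd K M) := by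
  rw [← Category.assoc, hmul, lift_snd]

omit [GrpObj K] [GrpObj M] [GrpObj P] hmul in
theorem ext_pts {T : C} {a b : T ⟶ P} (h1 : a ≫ e.hom ≫ fst K M = b ≫ e.hom ≫ fst K M)
    (h2 : a ≫ e.hom ≫ snd K M = b ≫ e.hom ≫ snd K M) : a = b := by
  rw [← cancel_mono e.hom]
  apply CartesianMonoidalCategory.hom_ext
  · simpa using h1
  · simpa using h2

end semi

end cat

variable {k : Type u} [Field k]

theorem exists_trick {K G Q M I : Over (Spec (CommRingCat.of k))} [GrpObj K] [GrpObj G] [GrpObj Q]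
    [GrpObj M] [GrpObj I] [GVar K] [GVar G] [GVar Q] [GVar M] [GVar I] {i : K ⟶ G} {π : G ⟶ Q}
    (h : Seq i π) (c : M ⟶ G) [IsMonHom c] [IsClosedImmersion c.left] [Surjective (c ≫ π).left]
    (e₀ : I ⟶ K) (c' : I ⟶ M) [IsMonHom e₀] [IsMonHom c'] (hI : IsPullback e₀ c' i c) :
    Seq c' (c ≫ π) ∧ ∃ (P : Over (Spec (CommRingCat.of k))) (_ : GrpObj P) (a : K ⟶ P) (b : P ⟶ M)
      (r : P ⟶ K) (d : I ⟶ P) (φ : P ⟶ G), GVar P ∧ Seq a b ∧ a ≫ r = 𝟙 K ∧ Seq d φ := by
  obtain ⟨hi, ci, hπ, hfl, hs, hker⟩ := h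
  have hN : AlgGrp.IsNormalHom i := Groth.Agent.Sga3.H794.ChevKer.isNormalHom_ker i π hker
  have hmi := mono_of_ci i
  have hmc := mono_of_ci c
  have hipi : i ≫ π = 1 := by rw [hker.w]; rfl
  have hcc' : IsClosedImmersion c'.left :=
    MorphismProperty.of_isPullback (P := @IsClosedImmersion) (hI.map (Over.forget _)) ci
  have hcπ : Cov (c ≫ π) := by
    have hred : IsReduced Q.left := Groth.Agent.Flat2B.SmoothGeom.isReduced_of_smooth Q.hom
    have hqc := qc_left (c ≫ π)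
    have hnQ := noeth Q
    exact ⟨Groth.Agent.Sga7.H758.FieldHom.flat_of_surjective k (c ≫ π), inferInstance, hqc⟩
  -- the action
  obtain ⟨act, hact⟩ := hN (M ⊗ K) (fst M K ≫ c) (snd M K)
  have hact' : ∀ (T : Over (Spec (CommRingCat.of k))) (m : T ⟶ M) (x : T ⟶ K),
      (lift m x ≫ act) ≫ i = (m ≫ c) * (x ≫ i) * (m ≫ c)⁻¹ := by
    intro T m x
    have h1 := congrArg (fun f => lift m x ≫ f) hact
    simp only [MonObj.comp_mul, GrpObj.comp_inv, lift_fst_assoc, lift_snd_assoc] at h1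
    rw [Category.assoc, ← h1]
  obtain ⟨P, hP, e, hmul⟩ := K979.Semi.exists_semi' act
    (fun T x => by
      rw [← cancel_mono i, hact']
      simp)
    (fun T m m' x => by
      rw [← cancel_mono i, hact', hact', hact', MonObj.mul_comp]
      group)
    (fun T m x x' => by
      rw [← cancel_mono i, hact', MonObj.mul_comp, MonObj.mul_comp, hact', hact']
      group)
  -- the projections
  have hcc : c' ≫ c = e₀ ≫ i := hI.w.symm
  have hact1 : ∀ (T : Over (Spec (CommRingCat.of k))) (x : T ⟶ K), lift (1 : T ⟶ M) x ≫ act = x := by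
    intro T x
    rw [← cancel_mono i, hact']
    simp
  let P₁ : P ⟶ K := e.hom ≫ fst K M
  let P₂ : P ⟶ M := e.hom ≫ snd K M
  have hmf := fun (T : Over (Spec (CommRingCat.of k))) (a b : T ⟶ P) => mul_fst hmul T a b
  have hms := fun (T : Over (Spec (CommRingCat.of k))) (a b : T ⟶ P) => mul_snd hmul T a b
  have hext : ∀ {T : Over (Spec (CommRingCat.of k))} {a b : T ⟶ P}, a ≫ P₁ = b ≫ P₁ → a ≫ P₂ = b ≫ P₂ →
      a = b := fun {T a b} h1 h2 => ext_pts h1 h2
  let a : K ⟶ P := lift (𝟙 K) 1 ≫ e.inv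
  have ha1 : a ≫ P₁ = 𝟙 K := by simp [a, P₁]
  have ha2 : a ≫ P₂ = 1 := by simp [a, P₂]
  have ha : IsMonHom a := isMonHom_of_pts a fun T x y => by
    apply hext
    · rw [Category.assoc, ha1, Category.comp_id, hmf]
      have h1 : (x ≫ a) ≫ P₁ = x := by rw [Category.assoc, ha1, Category.comp_id]
      have h2 : (y ≫ a) ≫ P₁ = y := by rw [Category.assoc, ha1, Category.comp_id]
      have h3 : (x ≫ a) ≫ P₂ = 1 := by rw [Category.assoc, ha2, MonObj.comp_one]
      change x * y = ((x ≫ a) ≫ P₁) * (lift ((x ≫ a) ≫ P₂) ((y ≫ a) ≫ P₁) ≫ act)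
      rw [h1, h2, h3, hact1]
    · rw [Category.assoc, ha2, MonObj.comp_one, hms]
      change 1 = ((x ≫ a) ≫ P₂) * ((y ≫ a) ≫ P₂)
      rw [Category.assoc, ha2, MonObj.comp_one, Category.assoc, ha2, MonObj.comp_one, _root_.mul_one]
  have hP₂ : IsMonHom P₂ := isMonHom_of_pts P₂ fun T x y => hms T x y
  let φ : P ⟶ G := (P₁ ≫ i) * (P₂ ≫ c)
  have hφp : ∀ {T : Over (Spec (CommRingCat.of k))} (x : T ⟶ P), x ≫ φ = (x ≫ P₁ ≫ i) * (x ≫ P₂ ≫ c) := by
    intro T x
    simp only [φ, MonObj.comp_mul]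
  have hφ : IsMonHom φ := isMonHom_of_pts φ fun T x y => by
    have h1 : (x * y) ≫ P₁ = (x ≫ P₁) * (lift (x ≫ P₂) (y ≫ P₁) ≫ act) := hmf T x y
    have h2 : (x * y) ≫ P₂ = (x ≫ P₂) * (y ≫ P₂) := hms T x y
    rw [hφp, hφp, hφp, ← Category.assoc (x * y) P₁ i, ← Category.assoc (x * y) P₂ c, h1, h2,
      MonObj.mul_comp, hact', MonObj.mul_comp]
    simp only [Category.assoc]
    group
  let d : I ⟶ P := lift e₀⁻¹ c' ≫ e.inv
  have hd1 : d ≫ P₁ = e₀⁻¹ := by simp [d, P₁]
  have hd2 : d ≫ P₂ = c' := by simp [d, P₂]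
  have hd : IsMonHom d := isMonHom_of_pts d fun T x y => by
    apply hext
    · rw [Category.assoc, hd1, GrpObj.comp_inv, MonObj.mul_comp]
      have h1 : ((x ≫ d) * (y ≫ d)) ≫ P₁ = ((x ≫ d) ≫ P₁) * (lift ((x ≫ d) ≫ P₂) ((y ≫ d) ≫ P₁) ≫ act) :=
        hmf T _ _
      rw [h1, Category.assoc, hd1, Category.assoc, hd2, Category.assoc, hd1, ← cancel_mono i,
        GrpObj.comp_inv, GrpObj.comp_inv, GrpObj.inv_comp, MonObj.mul_comp, MonObj.mul_comp, hact',
        GrpObj.inv_comp, GrpObj.inv_comp, Category.assoc x c' c, hcc]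
      simp only [Category.assoc]
      group
    · rw [Category.assoc, hd2]
      have h2 : ((x ≫ d) * (y ≫ d)) ≫ P₂ = ((x ≫ d) ≫ P₂) * ((y ≫ d) ≫ P₂) := hms T _ _
      rw [h2, Category.assoc, hd2, Category.assoc, hd2, MonObj.mul_comp]
  have hmc' : Mono c' := mono_of_ci c'
  have hma : Mono a := ⟨fun f g hfg => by
    have := congrArg (fun t => t ≫ P₁) hfg
    simpa only [Category.assoc, ha1, Category.comp_id] using this⟩
  have hmd : Mono d := ⟨fun f g hfg => by
    have := congrArg (fun t => t ≫ P₂) hfg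
    simp only [Category.assoc, hd2] at this
    exact (cancel_mono c').1 this⟩
  -- `P` is a group variety
  have hPv : GVar P := by
    have h1 : P.hom = (e.hom).left ≫ (K ⊗ M).hom := (Over.w e.hom).symm
    have h2 : IsIso (e.hom).left := inferInstanceAs (IsIso ((Over.forget _).map e.hom))
    have h3 : Smooth (K ⊗ M).hom := by rw [Over.tensorObj_hom]; infer_instance
    have h4 : QuasiCompact (K ⊗ M).hom := by rw [Over.tensorObj_hom]; infer_instance
    have h5 := Groth.Agent.Sga3.H794.RedIdNormal.irreducibleSpace_tensor K M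
    refine ⟨by rw [h1]; infer_instance, by rw [h1]; infer_instance, ?_⟩
    have h6 : ConnectedSpace (K ⊗ M).left := inferInstance
    exact (Scheme.homeoOfIso (asIso (e.hom).left)).symm.surjective.connectedSpace
      (Scheme.homeoOfIso (asIso (e.hom).left)).symm.continuous
  have hKne : Nonempty K.left := Groth.Agent.Sga3.H739.PerrinSetup.nonempty_of_grpObj K
  have hcb : Cov P₂ := (Cov.of_isIso e.hom).comp (snd_cov K M)
  have hka : AlgGrp.IsKernel a P₂ := isPullback_of_pts (by rw [ha2]; rfl) fun {T} x hx =>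
    ⟨x ≫ P₁, hext (by rw [Category.assoc, ha1, Category.comp_id])
      (by rw [Category.assoc, ha2, MonObj.comp_one, hx])⟩
  have hsM := K810.Ex.isSeparated M
  have hab : Seq a P₂ := ⟨ha, Groth.Agent.Sga3.H794.ChevKer.isClosedImmersion_ker a P₂ hka, hP₂, hcb.flat,
    hcb.surj, hka⟩
  -- `φ`
  have hsq : IsPullback P₂ φ (c ≫ π) π := by
    have hw : P₂ ≫ c ≫ π = φ ≫ π := by
      rw [show φ = (P₁ ≫ i) * (P₂ ≫ c) from rfl, MonObj.mul_comp, Category.assoc P₁ i π, hipi,
        MonObj.comp_one, _root_.one_mul, Category.assoc P₂ c π]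
    refine ⟨⟨hw⟩, ⟨PullbackCone.IsLimit.mk _ (fun s => lift (exists_lift hker (s.snd * (s.fst ≫ c)⁻¹) (by
      rw [MonObj.mul_comp, GrpObj.inv_comp, ← s.condition, Category.assoc, mul_inv_cancel])).choose s.fst ≫
        e.inv) ?_ ?_ ?_⟩⟩
    · intro s
      simp [P₂]
    · intro s
      have h1 := (exists_lift hker (s.snd * (s.fst ≫ c)⁻¹) (by
        rw [MonObj.mul_comp, GrpObj.inv_comp, ← s.condition, Category.assoc, mul_inv_cancel])).choose_spec
      rw [hφp]
      simp only [P₁, P₂, Category.assoc, Iso.inv_hom_id_assoc, lift_fst_assoc, lift_snd_assoc, h1]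
      group
    · intro s m h1 h2
      have h3 := (exists_lift hker (s.snd * (s.fst ≫ c)⁻¹) (by
        rw [MonObj.mul_comp, GrpObj.inv_comp, ← s.condition, Category.assoc, mul_inv_cancel])).choose_spec
      apply hext
      · simp only [P₁, Category.assoc, Iso.inv_hom_id_assoc, lift_fst]
        rw [← cancel_mono i, h3, ← h2, hφp, ← h1]
        simp only [P₁, P₂, Category.assoc]
        group
      · simp only [P₂, Category.assoc, Iso.inv_hom_id_assoc, lift_snd]
        exact h1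
  have hcφ : Cov φ := hcπ.of_isPullback hsq
  have hkd : AlgGrp.IsKernel d φ := isPullback_of_pts (by
      rw [hφp, ← Category.assoc, hd1, ← Category.assoc, hd2, hcc, GrpObj.inv_comp, inv_mul_cancel]; rfl)
    fun {T} x hx => by
      rw [hφp] at hx
      have h1 : (x ≫ P₂) ≫ c = (x ≫ P₁)⁻¹ ≫ i := by
        rw [GrpObj.inv_comp, Category.assoc, Category.assoc]
        exact (inv_eq_of_mul_eq_one_right hx).symm
      refine ⟨hI.lift (x ≫ P₁)⁻¹ (x ≫ P₂) h1.symm, hext ?_ ?_⟩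
      · rw [Category.assoc, hd1, GrpObj.comp_inv, hI.lift_fst, _root_.inv_inv]
      · rw [Category.assoc, hd2, hI.lift_snd]
  have hsG := K810.Ex.isSeparated G
  have hdφ : Seq d φ := ⟨hd, Groth.Agent.Sga3.H794.ChevKer.isClosedImmersion_ker d φ hkd, hφ, hcφ.flat,
    hcφ.surj, hkd⟩
  have hkc : AlgGrp.IsKernel c' (c ≫ π) := isPullback_of_pts (by
      rw [← Category.assoc, hcc, Category.assoc, hipi, MonObj.comp_one]; rfl)
    fun {T} x hx => by
      obtain ⟨y, hy⟩ := exists_lift hker (x ≫ c) (by rw [Category.assoc]; exact hx)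
      exact ⟨hI.lift y x hy, hI.lift_snd _ _ _⟩
  exact ⟨⟨inferInstance, hcc', inferInstance, hcπ.flat, hcπ.surj, hkc⟩, P, hP, a, P₂, P₁, d, φ, hPv, hab, ha1,
    hdφ⟩

end K810.Trick
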