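import Groth.Agent.EtAdic.K98.GmPow2
import Groth.Agent.EtAdic.K810.Trick
import Groth.Agent.Sga3B.TorusAlgClosed
import Groth.Agent.Sga3B.TorusIrr

/-!
# Non-trivial tori contain the multiplicative group as a direct factor
-/

set_option autoImplicit false
universe u

open CategoryTheory CategoryTheory.Limits MonoidalCategory CartesianMonoidalCategory MonObj GrpObj AlgebraicGeometry

namespace K810.Torus

open Groth.Agent Groth.Agent.Sga3B.DSPts K810.Ex

variable {S : Scheme.{u}}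

theorem isMonHom_DSmap {M N : Type} [AddCommGroup M] [AddCommGroup N] (φ : M →+ N) :
    IsMonHom (Red.DSmap S φ) := by
  refine K810.Trick.isMonHom_of_pts _ fun {T} a b => ?_
  rw [← dsEquiv_dsChar ((a * b) ≫ Red.DSmap S φ), ← dsEquiv_dsChar ((a ≫ Red.DSmap S φ) * (b ≫ Red.DSmap S φ))]
  rw [dsChar_DSmap, dsChar_mul, dsChar_mul, dsChar_DSmap, dsChar_DSmap, MonoidHom.mul_comp]

theorem DSmap_comp {M N L : Type} [AddCommGroup M] [AddCommGroup N] [AddCommGroup L] (φ : M →+ N) (ψ : N →+ L) :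
    Red.DSmap S ψ ≫ Red.DSmap S φ = Red.DSmap S (ψ.comp φ) := by
  rw [← dsEquiv_dsChar (Red.DSmap S ψ ≫ Red.DSmap S φ), ← dsEquiv_dsChar (Red.DSmap S (ψ.comp φ))]
  congr 1
  rw [dsChar_DSmap, ← Category.id_comp (Red.DSmap S ψ), ← Category.id_comp (Red.DSmap S (ψ.comp φ)),
    dsChar_DSmap, dsChar_DSmap]
  rfl

theorem DSmap_id {M : Type} [AddCommGroup M] : Red.DSmap S (AddMonoidHom.id M) = 𝟙 (Red.DS S M) := by
  rw [← dsEquiv_dsChar (Red.DSmap S (AddMonoidHom.id M)), ← dsEquiv_dsChar (𝟙 (Red.DS S M))]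
  congr 1
  rw [← Category.id_comp (Red.DSmap S (AddMonoidHom.id M)), dsChar_DSmap]
  rfl

variable {k : Type u} [Field k] [IsAlgClosed k]

/-- A torus is trivial or contains `𝔾_m` as a direct factor. -/
theorem exists_gm {T : Over (Spec (CommRingCat.of k))} [GrpObj T] (h : Red.IsTorus T) :
    IsIso T.hom ∨ ∃ (j : Red.Gm (Spec (CommRingCat.of k)) ⟶ T) (r : T ⟶ Red.Gm (Spec (CommRingCat.of k))),
      IsMonHom j ∧ IsMonHom r ∧ j ≫ r = 𝟙 _ := by
  obtain ⟨b, ⟨e⟩⟩ := Sga3B.TorusAlgClosed.exists_isSplitTorusWith h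
  have e1 : IsMonHom e.hom.hom.hom := e.hom.hom.isMonHom_hom
  have e2 : IsMonHom e.inv.hom.hom := e.inv.hom.isMonHom_hom
  have e3 : e.inv.hom.hom ≫ e.hom.hom.hom = 𝟙 _ := by
    have := congrArg (fun f => f.hom.hom) e.inv_hom_id
    exact this
  have e4 : e.hom.hom.hom ≫ e.inv.hom.hom = 𝟙 _ := by
    have := congrArg (fun f => f.hom.hom) e.hom_inv_id
    exact this
  rcases b with _ | b
  · left
    let f : T ≅ 𝟙_ (Over (Spec (CommRingCat.of k))) :=
      ⟨e.hom.hom.hom, e.inv.hom.hom, e4, e3⟩ ≪≫ K98.GmPow2.isoUnit _ (Fin 0 → ℤ)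
    have h1 : f.hom.left ≫ (𝟙_ (Over (Spec (CommRingCat.of k)))).hom = T.hom := Over.w f.hom
    rw [← h1]
    have : IsIso f.hom.left := inferInstanceAs (IsIso ((Over.forget _).map f.hom))
    have : IsIso (𝟙_ (Over (Spec (CommRingCat.of k)))).hom := inferInstanceAs (IsIso (𝟙 _))
    infer_instance
  · right
    have h1 := isMonHom_DSmap (S := Spec (CommRingCat.of k)) (Pi.evalAddMonoidHom (fun _ : Fin (b + 1) => ℤ) 0)
    have h2 := isMonHom_DSmap (S := Spec (CommRingCat.of k)) (AddMonoidHom.single (fun _ : Fin (b + 1) => ℤ) 0)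
    have hc : (Pi.evalAddMonoidHom (fun _ : Fin (b + 1) => ℤ) 0).comp
        (AddMonoidHom.single (fun _ : Fin (b + 1) => ℤ) 0) = AddMonoidHom.id ℤ := by
      ext
      simp
    refine ⟨Red.DSmap _ (Pi.evalAddMonoidHom (fun _ : Fin (b + 1) => ℤ) 0) ≫ e.inv.hom.hom,
      e.hom.hom.hom ≫ Red.DSmap _ (AddMonoidHom.single (fun _ : Fin (b + 1) => ℤ) 0), inferInstance, inferInstance, ?_⟩
    rw [Category.assoc, reassoc_of% e3, DSmap_comp, hc, DSmap_id]

omit [IsAlgClosed k] in
/-- Split monomorphisms of groups over a field are closed immersions. -/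
theorem isClosedImmersion_of_retract {X Y : Over (Spec (CommRingCat.of k))} [GrpObj X] [GrpObj Y]
    (j : X ⟶ Y) (r : Y ⟶ X) (h : j ≫ r = 𝟙 X) : IsClosedImmersion j.left := by
  have := isSeparated Y
  have hs : IsSeparated r.left := by
    have h1 : IsSeparated (r.left ≫ X.hom) := by rw [Over.w]; exact isSeparated Y
    exact IsSeparated.of_comp r.left X.hom
  have h1 : IsClosedImmersion (j.left ≫ r.left) := by
    rw [← Over.comp_left, h]
    exact inferInstanceAs (IsClosedImmersion (𝟙 X.left))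
  exact IsClosedImmersion.of_comp j.left r.left

/-- `𝔾_m` is not trivial. -/
theorem not_isIso_gm : ¬ IsIso (Red.Gm (Spec (CommRingCat.of k))).hom := by
  intro h
  have h1 : IsIso (toUnit (Red.Gm (Spec (CommRingCat.of k)))) := by
    have h2 : IsIso (toUnit (Red.Gm (Spec (CommRingCat.of k)))).left := by rw [Over.toUnit_left]; exact h
    have : IsIso ((Over.forget _).map (toUnit (Red.Gm (Spec (CommRingCat.of k))))) := h2
    exact isIso_of_reflects_iso _ (Over.forget _)
  let X : Over (Spec (CommRingCat.of k)) := Over.mk (𝟙 _)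
  let e : k ≃+* Γ(X.left, ⊤) := (Scheme.ΓSpecIso (CommRingCat.of k)).symm.commRingCatIsoToRingEquiv
  classical
  obtain ⟨a, ha⟩ := Infinite.exists_notMem_finset ({0, 1} : Finset k)
  have ha0 : a ≠ 0 := by rintro rfl; simp at ha
  have ha1 : a ≠ 1 := by rintro rfl; simp at ha
  let χ : Multiplicative ℤ →* Γ(X.left, ⊤) :=
    (e : k →* Γ(X.left, ⊤)).comp ((Units.coeHom k).comp (zpowersHom kˣ (Units.mk0 a ha0)))
  have h3 : dsEquiv X ℤ χ = dsEquiv X ℤ 1 := by
    rw [← cancel_mono (toUnit (Red.Gm (Spec (CommRingCat.of k))))]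
    exact toUnit_unique _ _
  have h4 : χ = 1 := (dsEquiv X ℤ).injective h3
  have h5 := DFunLike.congr_fun h4 (Multiplicative.ofAdd 1)
  have h6 : e a = 1 := by simpa [χ] using h5
  exact ha1 (e.injective (by rw [h6, map_one]))

omit [IsAlgClosed k] in
/-- Tori are group varieties. -/
theorem gvar_of_isTorus {T : Over (Spec (CommRingCat.of k))} [GrpObj T] (h : Red.IsTorus T) : GVar T := by
  have hTs : Smooth T.hom := Groth.Agent.Sga3B.TorusAlgClosed.smooth_of_isTorus h
  have hTa : IsAffineHom T.hom := Groth.Agent.Sga3B.TorusAlgClosed.isAffineHom_of_isTorus h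
  have hTi : GeometricallyIrreducible T.hom :=
    Groth.Agent.Sga3B.TorusIrr.geometricallyIrreducible_of_isTorus h
  have : IrreducibleSpace T.left := GeometricallyIrreducible.irreducibleSpace_of_subsingleton T.hom
  exact ⟨hTs, inferInstance, inferInstance⟩

end K810.Torus
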