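import Groth.Agent.EtAdic.K810.CentTor
import Groth.Agent.EtAdic.K810.Derived
import Groth.Agent.EtAdic.K810.Torus
import Groth.Agent.Sga3.H794.FinPts
import Groth.Agent.AlgGrp.K402.FinQuot
import Groth.Agent.S11398
import Groth.Agent.S11399
import Groth.Agent.S11400
import Groth.Agent.S3027
import Groth.Prelude.Def_SGA7IX

/-!
# A central torus of a group variety modulo a normal subgroup with commutative quotient
-/

set_option autoImplicit false
universe u

open CategoryTheory CategoryTheory.Limits MonoidalCategory CartesianMonoidalCategory MonObj GrpObj AlgebraicGeometry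

namespace K810.Bgm

open Groth.Agent.Sga3.H739.Fpqc Groth.Agent.Sga3.H739.KerPts K810.Ex K810.Step K810.Torus
open Groth.Agent Groth.Agent.Books.AlgPts Groth.Agent.Books.AlgPtsGrp

variable {k : Type u} [Field k] [IsAlgClosed k]

/-- A surjective homomorphism with finitely many rational points in its kernel is an isogeny. -/
theorem isIsogenyOver {G H : Over (Spec (CommRingCat.of k))} [GrpObj G] [GrpObj H] [GVar G] [GVar H]
    (u : G ⟶ H) [IsMonHom u] (hs : Surjective u.left)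
    (h : {x : 𝟙_ (Over (Spec (CommRingCat.of k))) ⟶ G | x ≫ u = 1}.Finite) : SGA7.IsIsogenyOver u := by
  refine ⟨hs, fun N i hi => ?_⟩
  have hci : IsClosedImmersion i.left := by
    have h1 : IsClosedImmersion (η[H] : 𝟙_ (Over (Spec (CommRingCat.of k))) ⟶ H).left := by
      have := isSeparated H
      have h2 : IsClosedImmersion ((η[H] : 𝟙_ (Over (Spec (CommRingCat.of k))) ⟶ H).left ≫ H.hom) := by
        rw [Over.w]
        exact inferInstanceAs (IsClosedImmersion (𝟙 _))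
      exact IsClosedImmersion.of_comp _ H.hom
    exact MorphismProperty.of_isPullback (P := @IsClosedImmersion) (hi.map (Over.forget _)).flip h1
  have hm := mono_of_ci i
  have hN : LocallyOfFiniteType N.hom := by rw [← Over.w i]; infer_instance
  have hNq : QuasiCompact N.hom := by rw [← Over.w i]; infer_instance
  have hfin : Finite (𝟙_ (Over (Spec (CommRingCat.of k))) ⟶ N) := by
    have := h.to_subtype
    refine Finite.of_injective (β := {x : 𝟙_ (Over (Spec (CommRingCat.of k))) ⟶ G | x ≫ u = 1})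
      (fun y => ⟨y ≫ i, ?_⟩) fun a b hab => ?_
    · change (y ≫ i) ≫ u = 1
      rw [Category.assoc, hi.w, ← Category.assoc, comp_toUnit]
      rfl
    · exact (cancel_mono i).1 (congrArg Subtype.val hab)
  have hd := Groth.Agent.Sga3.H794.FinPts.discreteTopology_of_finite hfin
  exact K402.FinQuot.isFinite_of_discrete N.hom

/-- Rational points lift along surjective homomorphisms. -/
theorem exists_lift_pt {G H : Over (Spec (CommRingCat.of k))} [GrpObj G] [GrpObj H] [GVar G] [GVar H]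
    (u : G ⟶ H) [Surjective u.left] (y : 𝟙_ (Over (Spec (CommRingCat.of k))) ⟶ H) :
    ∃ x : 𝟙_ (Over (Spec (CommRingCat.of k))) ⟶ G, x ≫ u = y :=
  Groth.Agent.Agf.H609.MaxTorSch.exists_lift_pt u y

/-- Quotients of commutative group varieties are commutative. -/
theorem isCommMonObj_of_surjective {G H : Over (Spec (CommRingCat.of k))} [GrpObj G] [GrpObj H] [GVar G] [GVar H]
    (u : G ⟶ H) [IsMonHom u] [Surjective u.left]
    (h : ∀ a b : 𝟙_ (Over (Spec (CommRingCat.of k))) ⟶ G, (a * b) ≫ u = (b * a) ≫ u) : IsCommMonObj H := by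
  refine K810.Derived.isCommMonObj_of_pts fun a b => ?_
  obtain ⟨a, rfl⟩ := exists_lift_pt u a
  obtain ⟨b, rfl⟩ := exists_lift_pt u b
  rw [← MonObj.mul_comp, h, MonObj.mul_comp]

omit [IsAlgClosed k] in
theorem mul_comm_pts {G : Over (Spec (CommRingCat.of k))} [GrpObj G] [IsCommMonObj G]
    {T : Over (Spec (CommRingCat.of k))} (a b : T ⟶ G) : a * b = b * a := mul_comm a b

/-- Closed subgroups of commutative groups are commutative. -/
theorem isCommMonObj_of_mono {G H : Over (Spec (CommRingCat.of k))} [GrpObj G] [GrpObj H] [GVar G]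
    [IsCommMonObj H] (u : G ⟶ H) [IsMonHom u] [Mono u] : IsCommMonObj G := by
  refine K810.Derived.isCommMonObj_of_pts fun a b => ?_
  rw [← cancel_mono u, MonObj.mul_comp, MonObj.mul_comp, mul_comm]

theorem conj_aux {Γ : Type*} [Group Γ] (a x y : Γ) (h : ∀ g, a * g = g * a) :
    (a * x) * y * (a * x)⁻¹ = x * y * x⁻¹ := by
  have h1 : (a * x) * y * (a * x)⁻¹ = a * (x * y * x⁻¹) * a⁻¹ := by group
  rw [h1, h, mul_inv_cancel_right]

/-- **The geometry.** -/
theorem exists_comm {K G : Over (Spec (CommRingCat.of k))} [GrpObj K] [GrpObj G] [GVar K] [GVar G]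
    (i : K ⟶ G) [IsMonHom i] [IsClosedImmersion i.left] (hK : Red.IsTorus K)
    (hc : ∀ (X : Over (Spec (CommRingCat.of k))) (g : X ⟶ G) (x : X ⟶ K), g * (x ≫ i) = (x ≫ i) * g) :
    ∃ (S T S₂ : Over (Spec (CommRingCat.of k))) (_ : GrpObj S) (_ : GrpObj T) (_ : GrpObj S₂) (q : G ⟶ S)
      (p : K ⟶ T) (j : T ⟶ S) (q₂ : S ⟶ S₂), GVar S ∧ GVar T ∧ GVar S₂ ∧ IsCommMonObj S ∧ IsCommMonObj T ∧
      IsCommMonObj S₂ ∧ IsMonHom q ∧ IsMonHom p ∧ SGA7.IsIsogenyOver p ∧ p ≫ j = i ≫ q ∧ Seq j q₂ := by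
  obtain ⟨L, _, l, ⟨hl1, hl2, hl3, hl4, hl5, hl6⟩, hl7, -⟩ := Groth.Agent.S11398.result k G
  have hLq : QuasiCompact L.hom := by rw [← Over.w l]; infer_instance
  have hLv : GVar L := ⟨hl3, hLq, hl4⟩
  have hKaff : IsAffine K.left := by
    have := Groth.Agent.Sga3B.TorusAlgClosed.isAffineHom_of_isTorus hK
    exact isAffine_of_isAffineHom K.hom
  obtain ⟨w, hw⟩ := Groth.Agent.S11399.result k G L l hl6 hl7 K i
  obtain ⟨Z, _, z, hz1, hz2, hz3, -⟩ := Groth.Agent.S3027.result k G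
  have hml := mono_of_ci l
  have hmi := mono_of_ci i
  have hmz := mono_of_ci z
  have hwm : IsMonHom w := by
    have : IsMonHom (w ≫ l) := by rw [hw]; infer_instance
    exact isMonHom_of_comp_mono w l this
  have hwmono : Mono w := by
    have : Mono (w ≫ l) := by rw [hw]; infer_instance
    exact mono_of_mono w l
  have hsurj := (Groth.Agent.S11400.result k G L l hl6 hl7 Z z ⟨hz1, hmz, fun X g => by
    rw [hz3 X g]
    refine forall_congr' fun X' => forall_congr' fun x => ?_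
    refine forall_congr' fun h => ?_
    rw [Category.comp_id]⟩).1
  have hZl : LocallyOfFiniteType Z.hom := by rw [← Over.w z]; infer_instance
  have hZLl : LocallyOfFiniteType (Z ⊗ L).hom := by
    rw [Over.tensorObj_hom]
    infer_instance
  have hdec : ∀ g : 𝟙_ (Over (Spec (CommRingCat.of k))) ⟶ G, ∃ (a : 𝟙_ (Over (Spec (CommRingCat.of k))) ⟶ Z)
      (x : 𝟙_ (Over (Spec (CommRingCat.of k))) ⟶ L), g = (a ≫ z) * (x ≫ l) := by
    intro g
    obtain ⟨a', ha'⟩ := Groth.Agent.Agf.H609.MaxTorSch.exists_lift_pt ((z ⊗ₘ l) ≫ μ[G]) g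
    refine ⟨a' ≫ fst _ _, a' ≫ snd _ _, ?_⟩
    rw [← ha', Hom.mul_def, ← Category.assoc]
    congr 1
    apply CartesianMonoidalCategory.hom_ext <;> simp
  have hzc : ∀ (a : 𝟙_ (Over (Spec (CommRingCat.of k))) ⟶ Z) (g : 𝟙_ (Over (Spec (CommRingCat.of k))) ⟶ G),
      (a ≫ z) * g = g * (a ≫ z) := by
    intro a g
    have h1 := (hz3 _ (a ≫ z)).1 ⟨a, rfl⟩ (𝟙_ _) (𝟙 _) g
    rw [Category.id_comp] at h1
    exact h1
  obtain ⟨D, _, d, hd1, hd2, hd3, hd4⟩ := (Groth.Agent.S3283.result k L).1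
  have hmd := mono_of_ci d
  have hcl : IsClosedImmersion (d ≫ l).left := by rw [Over.comp_left]; infer_instance
  -- normality
  have hn : AlgGrp.IsNormalHom (d ≫ l) := by
    refine Groth.Agent.Sga3B.RG.BrPts.isNormalHom_of_points (d ≫ l) fun g y => ?_
    obtain ⟨a, x, rfl⟩ := hdec g
    have h1 : y ≫ d ∈ commutator (𝟙_ (Over (Spec (CommRingCat.of k))) ⟶ L) := by
      rw [← SetLike.mem_coe, ← hd4]
      exact ⟨y, rfl⟩
    have h2 := Subgroup.Normal.conj_mem (inferInstanceAs (commutator (𝟙_ (Over (Spec (CommRingCat.of k))) ⟶ L)).Normal)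
      _ h1 x
    rw [← SetLike.mem_coe, ← hd4] at h2
    obtain ⟨y', hy'⟩ := h2
    refine ⟨y', ?_⟩
    have h3 : y' ≫ d = x * (y ≫ d) * x⁻¹ := hy'
    rw [conj_aux _ _ _ (hzc a), ← Category.assoc y' d l, ← Category.assoc y d l, h3, MonObj.mul_comp,
      MonObj.mul_comp, GrpObj.inv_comp]
  obtain ⟨S, _, q, hS, hq⟩ := exists_quot (d ≫ l) hn
  have hqm := hq.hπ
  have hqs := hq.surj
  have hSc : IsCommMonObj S := by
    refine isCommMonObj_of_surjective q fun g₁ g₂ => ?_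
    obtain ⟨a₁, x₁, rfl⟩ := hdec g₁
    obtain ⟨a₂, x₂, rfl⟩ := hdec g₂
    have h1 : x₁ * x₂ * x₁⁻¹ * x₂⁻¹ ∈ commutator (𝟙_ (Over (Spec (CommRingCat.of k))) ⟶ L) :=
      Subgroup.commutator_mem_commutator (Subgroup.mem_top x₁) (Subgroup.mem_top x₂)
    rw [← SetLike.mem_coe, ← hd4] at h1
    obtain ⟨y, hy⟩ := h1
    have h2 : y ≫ d = x₁ * x₂ * x₁⁻¹ * x₂⁻¹ := hy
    have h3 : (x₁ * x₂ * x₁⁻¹ * x₂⁻¹) ≫ l ≫ q = 1 := by
      rw [← h2, Category.assoc, ← Category.assoc d, hq.ker.w, ← Category.assoc, comp_toUnit]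
      rfl
    have h4 : (x₁ * x₂) ≫ l ≫ q = (x₂ * x₁) ≫ l ≫ q := by
      have h5 : x₁ * x₂ = (x₁ * x₂ * x₁⁻¹ * x₂⁻¹) * (x₂ * x₁) := by group
      rw [h5, MonObj.mul_comp, h3, _root_.one_mul]
    have h6 : (a₁ ≫ z) * (x₁ ≫ l) * ((a₂ ≫ z) * (x₂ ≫ l)) = ((a₁ ≫ z) * (a₂ ≫ z)) * ((x₁ * x₂) ≫ l) := by
      rw [MonObj.mul_comp, _root_.mul_assoc, ← _root_.mul_assoc (x₁ ≫ l), ← hzc]
      simp only [_root_.mul_assoc]
    have h7 : (a₂ ≫ z) * (x₂ ≫ l) * ((a₁ ≫ z) * (x₁ ≫ l)) = ((a₁ ≫ z) * (a₂ ≫ z)) * ((x₂ * x₁) ≫ l) := by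
      rw [MonObj.mul_comp, _root_.mul_assoc, ← _root_.mul_assoc (x₂ ≫ l), ← hzc, ← _root_.mul_assoc,
        ← _root_.mul_assoc, hzc a₂ (a₁ ≫ z)]
      simp only [_root_.mul_assoc]
    rw [h6, h7]
    refine (MonObj.mul_comp _ _ q).trans (Eq.trans ?_ (MonObj.mul_comp _ _ q).symm)
    exact congrArg (fun t => (((a₁ ≫ z) * (a₂ ≫ z)) ≫ q) * t) (by rw [Category.assoc, Category.assoc, h4])
  obtain ⟨T, _, p, j, hT, hp, hj, hpj, hpc, hjc⟩ := exists_im (i ≫ q)
  have hmj := mono_of_ci j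
  have hTc : IsCommMonObj T := isCommMonObj_of_mono j
  have hjn : AlgGrp.IsNormalHom j := fun X g x => ⟨x, by rw [mul_comm g, mul_inv_cancel_right]⟩
  obtain ⟨S₂, _, q₂, hS₂, hq₂⟩ := exists_quot j hjn
  have hq₂m := hq₂.hπ
  have hq₂s := hq₂.surj
  have hS₂c : IsCommMonObj S₂ := isCommMonObj_of_surjective q₂ fun a b => by rw [mul_comm]
  refine ⟨S, T, S₂, ‹_›, ‹_›, ‹_›, q, p, j, q₂, hS, hT, hS₂, hSc, hTc, hS₂c, hqm, hp, ?_, hpj, hq₂⟩
  refine isIsogenyOver p hpc.surj ?_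
  have hcw : ∀ (x : 𝟙_ (Over (Spec (CommRingCat.of k))) ⟶ L) (y : 𝟙_ (Over (Spec (CommRingCat.of k))) ⟶ K),
      x * (y ≫ w) = (y ≫ w) * x := by
    intro x y
    rw [← cancel_mono l, MonObj.mul_comp, MonObj.mul_comp, Category.assoc, hw, hc]
  refine (K810.CentTor.finite_pts w hK hcw).subset fun x hx => ?_
  have h1 : x ≫ p = 1 := hx
  obtain ⟨y, hy⟩ := exists_lift hq.ker (x ≫ i) (by
    rw [Category.assoc, ← hpj, ← Category.assoc, h1, MonObj.one_comp])
  have h2 : y ≫ d = x ≫ w := by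
    rw [← cancel_mono l, Category.assoc, Category.assoc, hw, hy]
  change x ≫ w ∈ commutator (𝟙_ (Over (Spec (CommRingCat.of k))) ⟶ L)
  rw [← h2, ← SetLike.mem_coe, ← hd4]
  exact ⟨y, rfl⟩

end K810.Bgm
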