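import Groth.Agent.EtAdic.K810.Basic
import Groth.Agent.S3901
import Groth.Agent.S3908
import Groth.Agent.S5247
import Groth.Agent.S5255
import Groth.Agent.S3036
import Groth.Agent.Sga3B.CentRep
import Groth.Agent.SGA3x.K18.MTDesc
import Groth.Agent.AbVar.K530.GenSub
import Groth.Agent.Agf.H609.MaxTorSch
import Groth.Agent.S5259
import Groth.Agent.Fga.ConnExt

/-!
# The normalizer of a maximal torus of an affine normal subgroup

Let `e ⟶ K ⟶ G ⟶ Q ⟶ e` be an exact sequence of group varieties with `K` affine and `T` a maximal torus of `K`. The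
identity component `M` of the normalizer of `T` in `G` centralizes `T`, maps onto `Q`, and meets `K` in the centralizer
of `T` in `K`.
-/

set_option autoImplicit false
universe u

open CategoryTheory CategoryTheory.Limits MonoidalCategory CartesianMonoidalCategory MonObj GrpObj AlgebraicGeometry

namespace K810.Cartan

open Groth.Agent.Sga3.H739.Fpqc Groth.Agent.Sga3.H739.KerPts K810.Ex
open Groth.Agent Groth.Agent.Books.AlgPts Groth.Agent.Books.AlgPtsGrp

section inner

variable {k : Type u} [Field k]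
variable {K G T : Over (Spec (CommRingCat.of k))} [GrpObj K] [GrpObj G] [GrpObj T]

omit [GrpObj K] in
theorem comp_conjBy (i : K ⟶ G) (g : 𝟙_ (Over (Spec (CommRingCat.of k))) ⟶ G)
    {X : Over (Spec (CommRingCat.of k))} (x : X ⟶ K) :
    x ≫ AGF.conjBy g i = (toUnit X ≫ g) * (x ≫ i) * (toUnit X ≫ g)⁻¹ := by
  rw [AGF.conjBy, MonObj.comp_mul, MonObj.comp_mul, GrpObj.comp_inv, ← Category.assoc, comp_toUnit]

/-- Inner automorphisms of `G` restricted to a normal subgroup. -/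
theorem exists_inner (i : K ⟶ G) [IsMonHom i] [Mono i] (hN : AlgGrp.IsNormalHom i)
    (g : 𝟙_ (Over (Spec (CommRingCat.of k))) ⟶ G) :
    ∃ γ : K ≅ K, IsMonHom γ.hom ∧ γ.hom ≫ i = AGF.conjBy g i := by
  have key : ∀ g : 𝟙_ (Over (Spec (CommRingCat.of k))) ⟶ G, ∃ γ : K ⟶ K, γ ≫ i = AGF.conjBy g i := by
    intro g
    obtain ⟨γ, hγ⟩ := hN K (toUnit K ≫ g) (𝟙 K)
    rw [Category.id_comp] at hγ
    exact ⟨γ, hγ.symm⟩
  obtain ⟨γ, hγ⟩ := key g
  obtain ⟨γ', hγ'⟩ := key g⁻¹
  have h1 : γ ≫ γ' = 𝟙 K := by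
    rw [← cancel_mono i, Category.assoc, hγ', comp_conjBy, hγ, AGF.conjBy, Category.id_comp,
      GrpObj.comp_inv]
    group
  have h2 : γ' ≫ γ = 𝟙 K := by
    rw [← cancel_mono i, Category.assoc, hγ, comp_conjBy, hγ', AGF.conjBy, Category.id_comp,
      GrpObj.comp_inv]
    group
  refine ⟨⟨γ, γ', h1, h2⟩, Groth.Agent.Sga3B.IsoFam.isMonHom_of_mul γ fun X x y => ?_, hγ⟩
  rw [← cancel_mono i, Category.assoc, hγ, comp_conjBy, MonObj.mul_comp, MonObj.mul_comp,
    Category.assoc, hγ, comp_conjBy, Category.assoc, hγ, comp_conjBy]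
  group

/-- The image of a maximal torus under an automorphism. -/
theorem isMaxTorus_comp {t : T ⟶ K} (ht : AGF.IsMaxTorus t) (γ : K ≅ K) [IsMonHom γ.hom] :
    AGF.IsMaxTorus (t ≫ γ.hom) := by
  obtain ⟨h1, h2, h3, h4⟩ := ht
  have hinv : IsMonHom γ.inv := inferInstance
  refine ⟨inferInstance, inferInstance, h3, fun T' _ j _ _ f hT' hf => ?_⟩
  exact h4 T' (j ≫ γ.inv) f hT' (by rw [← Category.assoc, hf, Category.assoc, Iso.hom_inv_id,
    Category.comp_id])

end inner

variable {k : Type u} [Field k] [IsAlgClosed k]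
variable {K G Q T : Over (Spec (CommRingCat.of k))} [GrpObj K] [GrpObj G] [GrpObj Q] [GrpObj T]

/-- **Frattini.** Rational points of the quotient lift to rational points normalizing the torus. -/
theorem exists_norm_pt [GVar K] [GVar G] [GVar Q] {i : K ⟶ G} {π : G ⟶ Q} (h : Seq i π) [IsAffine K.left]
    {t : T ⟶ K} (ht : AGF.IsMaxTorus t) {N : Over (Spec (CommRingCat.of k))} [GrpObj N] {ν : N ⟶ G}
    (hν : Red.IsNormalizerOf (t ≫ i) ν) (q : 𝟙_ (Over (Spec (CommRingCat.of k))) ⟶ Q) :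
    ∃ n : 𝟙_ (Over (Spec (CommRingCat.of k))) ⟶ N, n ≫ ν ≫ π = q := by
  obtain ⟨hi, ci, hπ, hfl, hs, hker⟩ := h
  have hN : AlgGrp.IsNormalHom i := Groth.Agent.Sga3.H794.ChevKer.isNormalHom_ker i π hker
  have hmi := mono_of_ci i
  obtain ⟨g, hg⟩ := Groth.Agent.Agf.H609.MaxTorSch.exists_lift_pt π q
  obtain ⟨γ, hγ1, hγ2⟩ := exists_inner i hN g
  obtain ⟨x, f, hf⟩ := Groth.Agent.S3901.result k K T T t (t ≫ γ.hom) ht (isMaxTorus_comp ht γ)
  have key : ∀ (X : Over (Spec (CommRingCat.of k))) (z : X ⟶ T),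
      (toUnit X ≫ g) * (z ≫ f.hom ≫ t ≫ i) * (toUnit X ≫ g)⁻¹ =
        (toUnit X ≫ x ≫ i) * (z ≫ t ≫ i) * (toUnit X ≫ x ≫ i)⁻¹ := by
    intro X z
    have h1 := congrArg (fun a => z ≫ a ≫ i) hf
    simp only [Category.assoc, hγ2] at h1
    have h2 : z ≫ f.hom ≫ t ≫ AGF.conjBy g i =
        (toUnit X ≫ g) * (z ≫ f.hom ≫ t ≫ i) * (toUnit X ≫ g)⁻¹ := by
      have := comp_conjBy i g (z ≫ f.hom ≫ t)
      simpa only [Category.assoc] using this
    have h3 : z ≫ AGF.conjBy x t ≫ i =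
        (toUnit X ≫ x ≫ i) * (z ≫ t ≫ i) * (toUnit X ≫ x ≫ i)⁻¹ := by
      rw [← Category.assoc, comp_conjBy, MonObj.mul_comp, MonObj.mul_comp, GrpObj.inv_comp]
      simp only [Category.assoc]
    rw [← h2, h1, h3]
  obtain ⟨hν1, hν2, hν3⟩ := hν
  obtain ⟨n, hn⟩ := (hν3 _ ((x ≫ i)⁻¹ * g)).2 (by
    intro X y z
    have h4 : y ≫ ((x ≫ i)⁻¹ * g) = (toUnit X ≫ x ≫ i)⁻¹ * (toUnit X ≫ g) := by
      rw [MonObj.comp_mul, GrpObj.comp_inv, toUnit_unique y (toUnit X)]
    constructor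
    · refine ⟨z ≫ f.inv, ?_⟩
      have h5 := key X (z ≫ f.inv)
      simp only [Category.assoc, Iso.inv_hom_id_assoc] at h5
      rw [h4, Category.assoc]
      calc _ = (toUnit X ≫ x ≫ i)⁻¹ * ((toUnit X ≫ g) * (z ≫ t ≫ i) * (toUnit X ≫ g)⁻¹) *
          (toUnit X ≫ x ≫ i) := by group
        _ = _ := by rw [h5]; group
    · refine ⟨z ≫ f.hom, ?_⟩
      have h5 := key X z
      rw [h4, Category.assoc]
      calc _ = (toUnit X ≫ g)⁻¹ * ((toUnit X ≫ x ≫ i) * (z ≫ t ≫ i) * (toUnit X ≫ x ≫ i)⁻¹) *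
          (toUnit X ≫ g) := by group
        _ = _ := by rw [← h5]; group)
  refine ⟨n, ?_⟩
  rw [← Category.assoc, hn, MonObj.mul_comp, GrpObj.inv_comp, Category.assoc, hg,
    show i ≫ π = 1 by rw [hker.w]; rfl, MonObj.comp_one, inv_one, _root_.one_mul]

/-- A homomorphism which is surjective onto a connected smooth group is surjective on the reduced identity
component. -/
theorem surjective_comp {N M : Over (Spec (CommRingCat.of k))} [GrpObj N] [GrpObj M] [GVar M] [GVar Q]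
    [LocallyOfFiniteType N.hom] [QuasiCompact N.hom] (m : M ⟶ N) [IsMonHom m]
    (hm : Set.range m.left = connectedComponent (pt η[N])) (u : N ⟶ Q) [IsMonHom u] [Surjective u.left] :
    Surjective (m ≫ u).left := by
  have hnQ := noeth Q
  have hred : IsReduced Q.left := Groth.Agent.Flat2B.SmoothGeom.isReduced_of_smooth Q.hom
  have hqc := qc_left u
  have hfl : Flat u.left := Groth.Agent.Sga7.H758.FieldHom.flat_of_surjective k u
  have hfp := lfp_left u
  have hN : IsLocallyNoetherian N.left := LocallyOfFiniteType.isLocallyNoetherian N.hom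
  have hNc : CompactSpace N.left := QuasiCompact.compactSpace_of_compactSpace N.hom
  have hNn : IsNoetherian N.left := ⟨⟩
  have hop : IsOpen (Set.range (m ≫ u).left) := by
    rw [Over.comp_left, Scheme.Hom.comp_base, TopCat.coe_comp, Set.range_comp, hm]
    exact u.left.isOpenMap _ (Groth.Agent.Fga.ConnExt.isOpen_connectedComponent
      TopologicalSpace.NoetherianSpace.finite_irreducibleComponents _)
  exact Groth.Agent.Sga7.H109.Basic.surjective_of_isOpen_range (m ≫ u) hop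

omit [IsAlgClosed k] in
theorem fibres_connected (M : Over (Spec (CommRingCat.of k))) [GrpObj M] [GVar M]
    (s : ↥(Spec (CommRingCat.of k))) :
    ConnectedSpace ↥(pullback M.hom ((Spec (CommRingCat.of k)).fromSpecResidueField s)) := by
  have h1 : GrpObj (Over.mk M.hom) := inferInstanceAs (GrpObj M)
  have h2 : GeometricallyIrreducible M.hom :=
    Groth.Agent.Sga3C.GrpIrr.geometricallyIrreducible_of_connectedSpace M.hom
  have h3 : GeometricallyIrreducible (pullback.snd M.hom ((Spec (CommRingCat.of k)).fromSpecResidueField s)) :=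
    inferInstance
  have h4 : IrreducibleSpace ↥(pullback M.hom ((Spec (CommRingCat.of k)).fromSpecResidueField s)) :=
    GeometricallyIrreducible.irreducibleSpace_of_subsingleton
      (pullback.snd M.hom ((Spec (CommRingCat.of k)).fromSpecResidueField s))
  infer_instance

/-- **The trick subgroup.** -/
theorem exists_cartan [GVar K] [GVar G] [GVar Q] {i : K ⟶ G} {π : G ⟶ Q} (h : Seq i π) [IsAffine K.left]
    {t : T ⟶ K} (ht : AGF.IsMaxTorus t) :
    ∃ (M I : Over (Spec (CommRingCat.of k))) (_ : GrpObj M) (_ : GrpObj I) (c : M ⟶ G) (e₀ : I ⟶ K)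
      (c' : I ⟶ M), GVar M ∧ GVar I ∧ IsMonHom c ∧ IsClosedImmersion c.left ∧ Surjective (c ≫ π).left ∧
      IsMonHom e₀ ∧ IsMonHom c' ∧ IsPullback e₀ c' i c ∧ Red.IsCentralizerOf t e₀ := by
  have h0 := h
  obtain ⟨hi, ci, hπ, hfl, hs, hker⟩ := h
  have hmi := mono_of_ci i
  obtain ⟨ht1, ht2, hT, ht4⟩ := id ht
  have hTs : Smooth T.hom := Groth.Agent.Sga3B.TorusAlgClosed.smooth_of_isTorus hT
  have hTa : IsAffineHom T.hom := Groth.Agent.Sga3B.TorusAlgClosed.isAffineHom_of_isTorus hT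
  have hTi : GeometricallyIrreducible T.hom :=
    Groth.Agent.Sga3B.TorusIrr.geometricallyIrreducible_of_isTorus hT
  have hqi := qc_left (t ≫ i)
  have hci : IsClosedImmersion (t ≫ i).left := Groth.Agent.S3036.result k T G (t ≫ i)
  have hMT := K18.MTDesc.isMultTypeFT_of_isTorus hT
  -- the normalizer
  obtain ⟨N, _, ν, hν1, hν2, -⟩ := Groth.Agent.Sga3B.CentRep.exists_normalizer (G := G) (t ≫ i)
  have hνh := hν2.1
  have hνm := hν2.2.1
  have hNl : LocallyOfFiniteType N.hom := by rw [← Over.w ν]; infer_instance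
  have hNq : QuasiCompact N.hom := by rw [← Over.w ν]; infer_instance
  obtain ⟨M, _, m, hm1, hm2, hm3, hm4, hm5⟩ := Groth.Agent.Sga3B.RedIdComp.exists_redIdComp N
  have hMq : QuasiCompact M.hom := by rw [← Over.w m]; infer_instance
  have hMv : GVar M := ⟨hm3, hMq, hm4⟩
  have hmm := mono_of_ci m
  have hus : Surjective (ν ≫ π).left := by
    have := qc_left (ν ≫ π)
    exact K530.GenSub.surjective_of_pts (ν ≫ π) (exists_norm_pt h0 ht hν2)
  have hMs := surjective_comp m hm5 (ν ≫ π)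
  -- the torus in `M`
  have hlift : ∀ {X : Over (Spec (CommRingCat.of k))} (f : X ⟶ N) (_ : Smooth X.hom) (_ : ConnectedSpace X.left)
      (e : 𝟙_ (Over (Spec (CommRingCat.of k))) ⟶ X) (_ : e ≫ f = η[N]), ∃ f' : X ⟶ M, f' ≫ m = f := by
    intro X f hX hXc e he
    have hr : IsReduced X.left := Groth.Agent.Flat2B.SmoothGeom.isReduced_of_smooth X.hom
    refine Groth.Agent.Books.AlgPtsGrp.exists_lift m f ?_
    rw [hm5]
    refine (isPreconnected_range f.left.continuous).subset_connectedComponent ?_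
    rw [← he, pt_comp]
    exact ⟨_, rfl⟩
  have hTc : ConnectedSpace T.left := by
    have : IrreducibleSpace T.left := GeometricallyIrreducible.irreducibleSpace_of_subsingleton T.hom
    infer_instance
  have hTcomm : ∀ (X : Over (Spec (CommRingCat.of k))) (a b : X ⟶ T), a * b = b * a :=
    fun X a b => Groth.Agent.Sga3B.SplitBc264.torus_comm hT a b
  obtain ⟨τ, hτ⟩ := (hν2.2.2 T (t ≫ i)).2 (by
    intro X x y
    have e1 : (x ≫ t ≫ i) * (y ≫ t ≫ i) * (x ≫ t ≫ i)⁻¹ = y ≫ t ≫ i := by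
      have := hTcomm X x y
      have h2 : (x * y) ≫ (t ≫ i) = (y * x) ≫ (t ≫ i) := by rw [this]
      rw [MonObj.mul_comp, MonObj.mul_comp] at h2
      rw [h2, mul_inv_cancel_right]
    have e2 : (x ≫ t ≫ i)⁻¹ * (y ≫ t ≫ i) * (x ≫ t ≫ i) = y ≫ t ≫ i := by
      have := hTcomm X x y
      have h2 : (x * y) ≫ (t ≫ i) = (y * x) ≫ (t ≫ i) := by rw [this]
      rw [MonObj.mul_comp, MonObj.mul_comp] at h2
      rw [_root_.mul_assoc, ← h2, inv_mul_cancel_left]
    exact ⟨⟨y, e1⟩, ⟨y, e2⟩⟩)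
  have hτm : IsMonHom τ := by
    have : IsMonHom (τ ≫ ν) := by rw [hτ]; infer_instance
    exact isMonHom_of_comp_mono τ ν this
  obtain ⟨τ', hτ'⟩ := hlift τ hTs hTc η[T] (IsMonHom.one_hom τ)
  have hτ'm : IsMonHom τ' := by
    have : IsMonHom (τ' ≫ m) := by rw [hτ']; infer_instance
    exact isMonHom_of_comp_mono τ' m this
  have hτc : τ' ≫ m ≫ ν = t ≫ i := by rw [← Category.assoc, hτ', hτ]
  have hτ'mono : Mono τ' := by
    have : Mono (τ' ≫ m ≫ ν) := by rw [hτc]; infer_instance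
    exact mono_of_mono τ' (m ≫ ν)
  have hτn : AlgGrp.IsNormalHom τ' := by
    intro X g y
    obtain ⟨h', hh'⟩ := ((hν2.2.2 X (g ≫ m ≫ ν)).1 ⟨g ≫ m, by rw [Category.assoc]⟩ X (𝟙 X) y).1
    refine ⟨h', ?_⟩
    rw [← cancel_mono (m ≫ ν), MonObj.mul_comp, MonObj.mul_comp, GrpObj.inv_comp, Category.assoc,
      Category.assoc, hτc, ← hh', Category.id_comp]
  have hcent := Groth.Agent.S5255.result M T (fibres_connected M) τ' hMT hτn
  -- the centralizer in `K`
  obtain ⟨I, _, e₀, he1, he2, he3⟩ := Groth.Agent.S5247.result T K hMT inferInstance inferInstance t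
  have hcI : ConnectedSpace I.left := Groth.Agent.S3908.result k K T t hT I e₀ he1
  have hIq : QuasiCompact I.hom := by rw [← Over.w e₀]; infer_instance
  have hIv : GVar I := ⟨he3, hIq, hcI⟩
  have he₀ := he1.1
  obtain ⟨jI, hjI⟩ := (hν2.2.2 I (e₀ ≫ i)).2 (by
    intro X x y
    have h1 := (he1.2.2 I e₀).1 ⟨𝟙 I, Category.id_comp _⟩ X x y
    have h2 : (x ≫ e₀ ≫ i) * (y ≫ t ≫ i) = (y ≫ t ≫ i) * (x ≫ e₀ ≫ i) := by
      have h3 := congrArg (fun f => f ≫ i) h1
      simp only [MonObj.mul_comp, Category.assoc] at h3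
      exact h3
    refine ⟨⟨y, ?_⟩, ⟨y, ?_⟩⟩
    · rw [h2, mul_inv_cancel_right]
    · rw [_root_.mul_assoc, ← h2, inv_mul_cancel_left])
  have hjIm : IsMonHom jI := by
    have : IsMonHom (jI ≫ ν) := by rw [hjI]; infer_instance
    exact isMonHom_of_comp_mono jI ν this
  obtain ⟨c', hc'⟩ := hlift jI he3 hcI η[I] (IsMonHom.one_hom jI)
  have hc'm : IsMonHom c' := by
    have : IsMonHom (c' ≫ m) := by rw [hc']; infer_instance
    exact isMonHom_of_comp_mono c' m this
  have hcc : c' ≫ m ≫ ν = e₀ ≫ i := by rw [← Category.assoc, hc', hjI]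
  have hme : Mono e₀ := he1.2.1
  refine ⟨M, I, ‹_›, ‹_›, m ≫ ν, e₀, c', hMv, hIv, inferInstance, by rw [Over.comp_left]; infer_instance,
    by rw [Category.assoc]; exact hMs, he₀, hc'm, ?_, he1⟩
  have hcent' : ∀ {X : Over (Spec (CommRingCat.of k))} (x : X ⟶ K) (y : X ⟶ M), x ≫ i = y ≫ m ≫ ν →
      ∃ z : X ⟶ I, z ≫ e₀ = x := by
    intro X x y hxy
    refine (he1.2.2 X x).2 fun X' a b => ?_
    have h1 := hcent X' (a ≫ y) b
    have h2 := congrArg (fun f => f ≫ m ≫ ν) h1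
    simp only [MonObj.mul_comp, Category.assoc, hτc, ← hxy] at h2
    rw [← cancel_mono i, MonObj.mul_comp, MonObj.mul_comp]
    simp only [Category.assoc]
    exact h2
  refine ⟨⟨hcc.symm⟩, ⟨PullbackCone.IsLimit.mk _ (fun s => (hcent' s.fst s.snd s.condition).choose) ?_ ?_ ?_⟩⟩
  · intro s
    exact (hcent' s.fst s.snd s.condition).choose_spec
  · intro s
    have h1 := (hcent' s.fst s.snd s.condition).choose_spec
    have : Mono (m ≫ ν) := mono_comp m ν
    rw [← cancel_mono (m ≫ ν), Category.assoc, hcc, ← Category.assoc, h1, s.condition]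
  · intro s a h1 _
    rw [← cancel_mono e₀, h1]
    exact (hcent' s.fst s.snd s.condition).choose_spec.symm

end K810.Cartan
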