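import Groth.Agent.Sga3B.RG.CentSplit
import Groth.Agent.Sga3B.RG.BrTorus
import Groth.Agent.AGF.K495.Bridge2
import Groth.Agent.EtAdic.K810.Basic
import Mathlib.GroupTheory.Abelianization.Defs

/-!
# A central torus meets the commutator subgroup in a finite group
-/

set_option autoImplicit false
universe u w

open WithConv TensorProduct Coalgebra

namespace K810.CentTor

open Groth.Agent.Sga3B.RG Groth.Agent.Sga3B.RG.K8

variable {K : Type u} [Field K] [IsAlgClosed K] {B : Type u} [CommRing B] [HopfAlgebra K B]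
  [Algebra.FiniteType K B]

omit [IsAlgClosed K] [Algebra.FiniteType K B] in
/-- Commutators acting by a scalar. -/
theorem pow_finrank {V : Type w} [AddCommGroup V] [Module K V] [FiniteDimensional K V] [Nontrivial V]
    (σ : Representation K (Pt K B) V) : 0 < Module.finrank K V ∧
      ∀ (g : Pt K B) (c : K), (∀ v, σ g v = c • v) → g ∈ commutator (Pt K B) → c ^ Module.finrank K V = 1 := by
  refine ⟨Module.finrank_pos, fun g c hg hgc => ?_⟩
  let D : Pt K B →* K := (LinearMap.det (A := K) (M := V)).comp σ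
  have h1 := Abelianization.commutator_subset_ker (MonoidHom.toHomUnits D) hgc
  rw [MonoidHom.mem_ker] at h1
  have h2 := congrArg (fun x : Kˣ => (x : K)) h1
  have h3 : D g = 1 := h2
  have h4 : (σ g : V →ₗ[K] V) = c • LinearMap.id := LinearMap.ext fun x => hg x
  have h6 : D g = c ^ Module.finrank K V := by
    change LinearMap.det (σ g : V →ₗ[K] V) = _
    rw [h4, LinearMap.det_smul, LinearMap.det_id, mul_one]
  rw [← h6, h3]

/-- Every character of a central torus has a positive multiple which is trivial on commutators. -/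
theorem exists_pow [IsReduced B] {n : ℕ} (π : B →ₐc[K] MonoidAlgebra K (Multiplicative (Fin n → ℤ)))
    (hπ : Function.Surjective π) (hc : (Pt.map π).range ≤ Subgroup.center (Pt K B))
    (m : Multiplicative (Fin n → ℤ)) :
    ∃ d : ℕ, 0 < d ∧ ∀ t, Pt.map π (torPt _ t) ∈ commutator (Pt K B) → (t m : K) ^ d = 1 := by
  classical
  obtain ⟨b, hb⟩ := hπ (MonoidAlgebra.single m 1)
  obtain ⟨W, hfin, hW, hbW⟩ := exists_finite_stable (K := K) b
  let ρ : Representation K (Pt K B) W := (rTrRep K B).subrepresentation W hW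
  have hρ : IsAlg ρ := isAlg_sub isAlg_rTrRep W hW
  have hρv : ∀ g (w : W), ((ρ g w : W) : B) = rTr g (w : B) := fun g w => rfl
  obtain ⟨d⟩ := nonempty_torDec (torChar_injective n) π hρ
  have hev : ∀ g (w : W), (1 : Pt K B) ((ρ g w : W) : B) = g (w : B) := by
    intro g w
    rw [hρv, rTr_apply_pt, one_mul]
  let e : W →ₗ[K] K := (1 : Pt K B).ofConv.toLinearMap ∘ₗ W.subtype
  have he : ∀ t, ∑ m' ∈ d.S, e (d.P m' ⟨b, hbW⟩) * torChar K _ m' t = torChar K _ m t := by
    intro t
    have h1 := congrArg e (d.sum_smul t ⟨b, hbW⟩)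
    rw [map_sum] at h1
    have h2 : e (ρ (Pt.map π (torPt _ t)) ⟨b, hbW⟩) = torChar K _ m t := by
      refine (hev _ _).trans ?_
      rw [Pt.map_apply]
      change (torPt _ t : Pt K (MonoidAlgebra K _)) (π b) = _
      rw [hb, torPt_single, one_mul]
      rfl
    refine Eq.trans ?_ (h1.trans h2)
    refine Finset.sum_congr rfl fun m' _ => ?_
    rw [map_smul, smul_eq_mul, mul_comm]
  have hmP : d.P m ⟨b, hbW⟩ ≠ 0 := by
    intro h0
    have h1 := WtDec.coeff_eq_zero (torChar_injective (K := K) n) (insert m d.S)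
      (fun m' => e (d.P m' ⟨b, hbW⟩) - if m' = m then 1 else 0) (fun t => ?_) m
      (Finset.mem_insert_self _ _)
    · rw [h0, map_zero, if_pos rfl, zero_sub, neg_eq_zero] at h1
      exact one_ne_zero h1
    · simp_rw [sub_mul, Finset.sum_sub_distrib, ite_mul, one_mul, zero_mul]
      rw [Finset.sum_ite_eq' (insert m d.S) m, if_pos (Finset.mem_insert_self _ _), sub_eq_zero,
        ← he t]
      by_cases hm : m ∈ d.S
      · rw [Finset.insert_eq_of_mem hm]
      · rw [Finset.sum_insert hm, d.P_eq_zero m hm, LinearMap.zero_apply, map_zero, zero_mul,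
          zero_add]
  have hst : IsStable ρ (twt π ρ m) := by
    intro g w hw
    rw [mem_twt] at hw ⊢
    intro t
    have hcomm : Pt.map π (torPt _ t) * g = g * Pt.map π (torPt _ t) :=
      ((Subgroup.mem_center_iff.1 (hc ⟨torPt _ t, rfl⟩)) g).symm
    rw [← Module.End.mul_apply, ← map_mul, hcomm, map_mul, Module.End.mul_apply, hw t, map_smul]
  have hmem : d.P m ⟨b, hbW⟩ ∈ twt π ρ m := d.P_mem (torChar_injective n) m ⟨b, hbW⟩
  have hntU : Nontrivial (twt π ρ m) := ⟨⟨⟨_, hmem⟩, 0, fun h => hmP (by simpa using congrArg Subtype.val h)⟩⟩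
  obtain ⟨hpos, h1⟩ := pow_finrank (V := twt π ρ m) (ρ.subrepresentation (twt π ρ m) (fun g w hw => hst g w hw))
  refine ⟨_, hpos, fun t ht => h1 _ _ (fun v => ?_) ht⟩
  have h5 := v.2
  rw [mem_twt] at h5
  exact Subtype.ext (h5 t)

/-- **A central torus meets the commutator subgroup in a finite group.** -/
theorem finite_inf [IsReduced B] {T : Subgroup (Pt K B)} (hT : IsTorusSub T) (hc : T ≤ Subgroup.center (Pt K B)) :
    (((T ⊓ commutator (Pt K B) : Subgroup (Pt K B))) : Set (Pt K B)).Finite := by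
  classical
  obtain ⟨n, π, hπ, rfl⟩ := hT
  choose d hd0 hd using exists_pow π hπ hc
  let S : Set (Multiplicative (Fin n → ℤ) →* Kˣ) :=
    {t | ∀ i : Fin n, (t (Multiplicative.ofAdd (Pi.single i 1)) : K) ^
      d (Multiplicative.ofAdd (Pi.single i 1)) = 1}
  have hS : S.Finite := by
    have hinj : Function.Injective (fun (t : Multiplicative (Fin n → ℤ) →* Kˣ) (i : Fin n) =>
        (t (Multiplicative.ofAdd (Pi.single i 1)) : K)) := by
      intro s t hst
      have h1 : MonoidHom.toAdditiveRight s = MonoidHom.toAdditiveRight t := by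
        refine AddMonoidHom.functions_ext' (I := Fin n) (M := fun _ => ℤ) (Additive Kˣ) _ _ fun i =>
          AddMonoidHom.ext_int ?_
        have h2 := congrFun hst i
        exact congrArg Additive.ofMul (Units.ext h2)
      exact MonoidHom.toAdditiveRight.injective h1
    refine Set.Finite.of_finite_image (f := fun (t : Multiplicative (Fin n → ℤ) →* Kˣ) (i : Fin n) =>
        (t (Multiplicative.ofAdd (Pi.single i 1)) : K)) ?_ hinj.injOn
    refine (Set.Finite.pi' (fun i : Fin n => ?_)).subset (s := {f | ∀ i, f i ∈ {x : K | x ^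
      d (Multiplicative.ofAdd (Pi.single i 1)) = 1}}) ?_
    · refine ((Polynomial.nthRoots (d (Multiplicative.ofAdd (Pi.single i 1))) (1 : K)).toFinset.finite_toSet).subset
        fun x hx => ?_
      have : x ^ d (Multiplicative.ofAdd (Pi.single i 1)) = 1 := hx
      simp [Polynomial.mem_nthRoots (hd0 _), this]
    · rintro _ ⟨t, ht, rfl⟩
      exact ht
  refine (hS.image (fun t => Pt.map π (torPt _ t))).subset ?_
  rintro g ⟨⟨x, hx⟩, hg⟩
  refine ⟨(torPt _).symm x, fun i => ?_, ?_⟩
  · refine hd _ _ ?_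
    rw [MulEquiv.apply_symm_apply, hx]
    exact hg
  · change Pt.map π (torPt _ ((torPt _).symm x)) = g
    rw [MulEquiv.apply_symm_apply, hx]

section scheme

open CategoryTheory CategoryTheory.Limits MonoidalCategory CartesianMonoidalCategory MonObj GrpObj AlgebraicGeometry
open Groth.Agent.Books.AffBridge Groth.Agent.Books.AffBridge2 Groth.Agent.Sga3B.RG.BrPts K810.Ex

/-- **A central torus of an affine group variety contains finitely many commutators.** -/
theorem finite_pts {L T : Over (Spec (CommRingCat.of K))} [GrpObj L] [GrpObj T] [GVar L] [IsAffine L.left]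
    (w : T ⟶ L) [IsMonHom w] [Mono w] (hT : Red.IsTorus T)
    (hc : ∀ (x : 𝟙_ (Over (Spec (CommRingCat.of K))) ⟶ L) (y : 𝟙_ (Over (Spec (CommRingCat.of K))) ⟶ T),
      x * (y ≫ w) = (y ≫ w) * x) :
    {y : 𝟙_ (Over (Spec (CommRingCat.of K))) ⟶ T |
      y ≫ w ∈ commutator (𝟙_ (Over (Spec (CommRingCat.of K))) ⟶ L)}.Finite := by
  obtain ⟨A, _, _, e, he, hA, hred⟩ := K495.Bridge.exists_data L
  let ψ : (𝟙_ (Over (Spec (CommRingCat.of K))) ⟶ L) →* Pt K A :=
    { toFun := fun x => (ptEquiv K A).symm (x ≫ e.hom)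
      map_one' := by rw [MonObj.one_comp, map_one]
      map_mul' := fun x y => by rw [MonObj.mul_comp, map_mul] }
  have hψ : Function.Surjective ψ := by
    intro g
    refine ⟨ptEquiv K A g ≫ e.inv, ?_⟩
    change (ptEquiv K A).symm ((ptEquiv K A g ≫ e.inv) ≫ e.hom) = g
    rw [Category.assoc, Iso.inv_hom_id, Category.comp_id, MulEquiv.symm_apply_apply]
  have hψi : Function.Injective ψ := by
    intro x y hxy
    have h1 : x ≫ e.hom = y ≫ e.hom := (ptEquiv K A).symm.injective hxy
    exact (cancel_mono e.hom).1 h1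
  have hTs := Groth.Agent.Sga3B.RG.BrTorus.isTorusSub_ptsSub (w ≫ e.hom) hT
  have hc' : ptsSub (w ≫ e.hom) ≤ Subgroup.center (Pt K A) := by
    rintro g ⟨y, hy⟩
    have hg : g = ψ (y ≫ w) := by
      change g = (ptEquiv K A).symm ((y ≫ w) ≫ e.hom)
      rw [Category.assoc, hy, MulEquiv.symm_apply_apply]
    rw [Subgroup.mem_center_iff]
    intro h
    obtain ⟨x, rfl⟩ := hψ h
    rw [hg, ← map_mul, ← map_mul, hc]
  have hfin := finite_inf hTs hc'
  refine Set.Finite.of_finite_image (f := fun y => ψ (y ≫ w)) (hfin.subset ?_) (fun x _ y _ hxy => ?_)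
  · rintro _ ⟨y, hy, rfl⟩
    refine ⟨⟨y, ?_⟩, ?_⟩
    · change y ≫ w ≫ e.hom = ptEquiv K A ((ptEquiv K A).symm ((y ≫ w) ≫ e.hom))
      rw [MulEquiv.apply_symm_apply, Category.assoc]
    · have h1 : (commutator (𝟙_ (Over (Spec (CommRingCat.of K))) ⟶ L)).map ψ ≤ commutator (Pt K A) := by
        rw [commutator_def, Subgroup.map_commutator]
        exact Subgroup.commutator_mono le_top le_top
      exact h1 ⟨_, hy, rfl⟩
  · exact (cancel_mono w).1 (hψi hxy)

end scheme

end K810.CentTor
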