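import Groth.Agent.EtAdic.K810.Basic
import Groth.Agent.EtAdic.K833.TransTriv
import Groth.Agent.EtAdic.K833.Transfer
import Groth.Agent.EtAdic.K833.IsogGal
import Groth.Agent.EtAdic.K833.VecAcyc
import Groth.Agent.EtAdic.K98.GmPow
import Groth.Agent.Sga4h.H911.ConstZero
import Groth.Agent.S11890

/-!
# Restriction maps with bounded cokernel
-/

set_option autoImplicit false
universe u

open CategoryTheory CategoryTheory.Limits MonoidalCategory CartesianMonoidalCategory MonObj GrpObj AlgebraicGeometry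
open scoped Groth.Agent.Etcore.EtInst
open Groth.Agent.Etcore.EtInst Groth.Agent.Etcore.PullCoh Groth.Agent.Etcore.HpullCalc Groth.Agent.Etcore.HC

namespace K810.Coh

open Groth.Agent Groth.Agent.Sga4h K810.Ex

/-- The pullback map `H^t(Y, ℤ/ℓ^ν) → H^t(X, ℤ/ℓ^ν)` has cokernel killed by a fixed integer. -/
def Cls (ℓ : ℕ) {X Y : Scheme.{u}} (f : X ⟶ Y) (t : ℕ) : Prop :=
  ∃ N : ℕ, 0 < N ∧ ∀ (ν : ℕ) (c : HH X (EtCoh.const X (ZMod (ℓ ^ ν))) t),
    ∃ z : HH Y (EtCoh.const Y (ZMod (ℓ ^ ν))) t, HC (ZMod (ℓ ^ ν)) f t z = N • c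

variable {ℓ : ℕ} {X Y Z : Scheme.{u}}

theorem Cls.of_retract (f : X ⟶ Y) (r : Y ⟶ X) (h : f ≫ r = 𝟙 X) (t : ℕ) : Cls ℓ f t :=
  ⟨1, one_pos, fun ν c => ⟨HC _ r t c, by rw [← HC_comp, h, HC_id, one_smul]⟩⟩

theorem Cls.zero (f : X ⟶ Y) (g : Y ⟶ X) [ConnectedSpace X] : Cls ℓ f 0 :=
  ⟨1, one_pos, fun ν c => ⟨HC _ g 0 c, by
    rw [← HC_comp, one_smul]
    exact Groth.Agent.Sga4h.H911.ConstZero.HC_zero X _ _ c⟩⟩

theorem Cls.of_subsingleton (f : X ⟶ Y) (t : ℕ)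
    (h : ∀ ν : ℕ, Subsingleton (HH X (EtCoh.const X (ZMod (ℓ ^ ν))) t)) : Cls ℓ f t :=
  ⟨1, one_pos, fun ν c => ⟨0, (h ν).elim _ _⟩⟩

theorem Cls.of_surjective (f : X ⟶ Y) (g : Y ⟶ Z) (t : ℕ)
    (h : ∀ ν : ℕ, Function.Surjective (HC (ZMod (ℓ ^ ν)) (f ≫ g) t)) : Cls ℓ f t :=
  ⟨1, one_pos, fun ν c => by
    obtain ⟨z, rfl⟩ := h ν c
    exact ⟨HC _ g t z, by rw [HC_comp, one_smul]⟩⟩

/-- If `f ≫ g = p ≫ j` where `p` has bounded cokernel and `j` is surjective in degree `t`. -/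
theorem Cls.of_square {W : Scheme.{u}} (f : X ⟶ Y) (g : Y ⟶ Z) (p : X ⟶ W) (j : W ⟶ Z) (w : p ≫ j = f ≫ g)
    (t : ℕ) (hp : Cls ℓ p t) (hj : ∀ ν : ℕ, Function.Surjective (HC (ZMod (ℓ ^ ν)) j t)) : Cls ℓ f t := by
  obtain ⟨N, hN, h⟩ := hp
  refine ⟨N, hN, fun ν c => ?_⟩
  obtain ⟨x, hx⟩ := h ν c
  obtain ⟨y, rfl⟩ := hj ν x
  exact ⟨HC _ g t y, by rw [← HC_comp, ← w, HC_comp, hx]⟩

theorem Cls.of_comp (f : X ⟶ Y) (g : Y ⟶ Z) (t : ℕ) (h : Cls ℓ (f ≫ g) t) : Cls ℓ f t := by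
  obtain ⟨N, hN, h⟩ := h
  refine ⟨N, hN, fun ν c => ?_⟩
  obtain ⟨x, hx⟩ := h ν c
  exact ⟨HC _ g t x, by rw [← HC_comp, hx]⟩

section isog

variable {k : Type u} [Field k] [IsAlgClosed k]

/-- Isogenies have bounded cokernel. -/
theorem cls_isog {G H : Over (Spec (CommRingCat.of k))} [GrpObj G] [GrpObj H] [GVar G] [GVar H]
    [Fact ℓ.Prime] (hℓ : (ℓ : k) ≠ 0) (φ : G ⟶ H) [IsMonHom φ] (hφ : SGA7.IsIsogenyOver φ) (t : ℕ) :
    Cls ℓ φ.left t := by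
  have hLG := noeth G
  have hLH := noeth H
  have hqc := qc_left φ
  have hs : Surjective φ.left := hφ.1
  let i := pullback.fst φ (η[H] : 𝟙_ (Over (Spec (CommRingCat.of k))) ⟶ H)
  have hi : AlgGrp.IsKernel i φ := by
    have h2 := IsPullback.of_hasPullback φ (η[H] : 𝟙_ (Over (Spec (CommRingCat.of k))) ⟶ H)
    rw [toUnit_unique (pullback.snd φ (η[H] : 𝟙_ (Over (Spec (CommRingCat.of k))) ⟶ H)) (toUnit _)] at h2
    exact h2
  have hN := hφ.2 _ i hi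
  have hfin : IsFinite φ.left := Groth.Agent.Sga7.H758.FieldHom.isFinite_of_isFinite_ker φ i hi
  have hred : IsReduced H.left := Groth.Agent.Flat2B.SmoothGeom.isReduced_of_smooth H.hom
  have hflat : Flat φ.left := Groth.Agent.Sga7.H758.FieldHom.flat_of_surjective k φ
  have hfp := lfp_left φ
  have huo : UniversallyOpen φ.left := inferInstance
  have hfK : Finite (K833.IsogGal.kerPts φ) := K833.IsogGal.finite_kerPts φ i hi
  have : Fintype (K833.IsogGal.kerPts φ) := Fintype.ofFinite _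
  let D := K833.IsogGal.galData φ i hi
  refine ⟨Fintype.card (K833.IsogGal.kerPts φ), Fintype.card_pos, fun ν c => ?_⟩
  refine ⟨K833.Transfer.tm D (ZMod (ℓ ^ ν)) t c, ?_⟩
  rw [K833.Transfer.HC_tm]
  have hz : NeZero (ℓ ^ ν) := ⟨pow_ne_zero _ (Fact.out : ℓ.Prime).ne_zero⟩
  have hm : ((ℓ ^ ν : ℕ) : k) ≠ 0 := by
    rw [Nat.cast_pow]
    exact pow_ne_zero _ hℓ
  rw [Finset.sum_congr rfl fun g _ => K833.TransTriv.HC_rt hm G g.1 (ZMod (ℓ ^ ν))
    (fun x => by rw [nsmul_eq_mul, ZMod.natCast_self, zero_mul]) t c]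
  rw [Finset.sum_const, Finset.card_univ]

end isog

section unip

variable {k : Type u} [Field k] [IsAlgClosed k]

/-- Affine spaces are acyclic. -/
theorem acyc_mvPoly {m : ℕ} (hm : (m : k) ≠ 0) {X : Scheme.{u}} (f : X ⟶ Spec (CommRingCat.of k)) (n : ℕ)
    (e : X ≅ Spec (CommRingCat.of (MvPolynomial (Fin n) k)))
    (he : e.hom ≫ Spec.map (CommRingCat.ofHom (algebraMap k (MvPolynomial (Fin n) k))) = f)
    (M : Type) [AddCommGroup M] [Finite M] (hM : ∀ x : M, m • x = 0) :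
    Groth.Agent.Sga4h.Acyc.Acyc f (EtCoh.const (Spec (CommRingCat.of k)) M) := by
  let φ : MvPolynomial (Fin n) k ≃ₐ[k] MvPolynomial (ULift.{u} (Fin n)) k :=
    MvPolynomial.renameEquiv k Equiv.ulift.symm
  let s : Spec (CommRingCat.of (MvPolynomial (ULift.{u} (Fin n)) k)) ≅
      Spec (CommRingCat.of (MvPolynomial (Fin n) k)) :=
    Scheme.Spec.mapIso φ.toRingEquiv.toCommRingCatIso.op
  have hs : s.hom ≫ Spec.map (CommRingCat.ofHom (algebraMap k (MvPolynomial (Fin n) k))) =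
      Spec.map (CommRingCat.ofHom (MvPolynomial.C : k →+* MvPolynomial (ULift.{u} (Fin n)) k)) := by
    change Spec.map _ ≫ Spec.map _ = Spec.map _
    rw [← Spec.map_comp]
    congr 1
    apply CommRingCat.hom_ext
    apply RingHom.ext
    intro x
    exact φ.commutes x
  have h1 := AffineSpace.SpecIso_inv_over (n := ULift.{u} (Fin n)) (CommRingCat.of k)
  have key : f = (e.hom ≫ s.inv ≫ (AffineSpace.SpecIso (ULift.{u} (Fin n)) (CommRingCat.of k)).inv) ≫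
      (𝔸(ULift.{u} (Fin n); Spec (CommRingCat.of k)) ↘ Spec (CommRingCat.of k)) := by
    rw [Category.assoc, Category.assoc, h1, ← he]
    congr 1
    rw [Iso.eq_inv_comp]
    exact hs
  rw [key]
  refine (AcycComp.acyc_comp_iff _ _ _ (K833.VecAcyc.acyc_of_isIso _ _)).2 ?_
  have hu : IsUnit (m : Γ(Spec (CommRingCat.of k), ⊤)) := by
    have := (IsUnit.mk0 (m : k) hm).map (Scheme.ΓSpecIso (CommRingCat.of k)).inv.hom
    rwa [map_natCast] at this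
  exact Groth.Agent.S3117.result (Spec (CommRingCat.of k)) n m hu _
    (Groth.Agent.Etrest.ConstBasic.killedBy_const _ M m hM)

theorem cls_unip [Fact ℓ.Prime] (hℓ : (ℓ : k) ≠ 0) {K G : Over (Spec (CommRingCat.of k))} [GrpObj K] [GVar K]
    [IsCommMonObj K] [IsAffine K.left] (hK : Red.HasNoSubtorus k K) (i : K ⟶ G) (t : ℕ) :
    Cls ℓ i.left t := by
  obtain ⟨n, e, he⟩ := Groth.Agent.S11890.result k K hK
  refine Cls.of_surjective i.left G.hom t fun ν => ?_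
  have hz : NeZero (ℓ ^ ν) := ⟨pow_ne_zero _ (Fact.out : ℓ.Prime).ne_zero⟩
  have hm : ((ℓ ^ ν : ℕ) : k) ≠ 0 := by
    rw [Nat.cast_pow]
    exact pow_ne_zero _ hℓ
  rw [Over.w]
  exact (K833.AcycDesc.HC_bijective _ _ (acyc_mvPoly hm K.hom n e he _
    (fun x => by rw [nsmul_eq_mul, ZMod.natCast_self, zero_mul])) t).2

end unip

section gm

variable {k : Type u} [Field k] [IsAlgClosed k]

theorem cls_gm [Fact ℓ.Prime] (hℓ : (ℓ : k) ≠ 0) {K G : Over (Spec (CommRingCat.of k))} [GrpObj K] [GVar K]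
    (e : Red.Gm (Spec (CommRingCat.of k)) ≅ K) (i : K ⟶ G) (t : ℕ) (h1 : Cls ℓ i.left 1) :
    Cls ℓ i.left t := by
  rcases t with _ | _ | t
  · exact Cls.zero i.left (G.hom ≫ (η[K] : 𝟙_ (Over (Spec (CommRingCat.of k))) ⟶ K).left)
  · exact h1
  · refine Cls.of_subsingleton _ _ fun ν => ?_
    have hz : NeZero (ℓ ^ ν) := ⟨pow_ne_zero _ (Fact.out : ℓ.Prime).ne_zero⟩
    have hm : ((ℓ ^ ν : ℕ) : k) ≠ 0 := by
      rw [Nat.cast_pow]
      exact pow_ne_zero _ hℓ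
    exact (K98.GmPow.isGmLike_of_iso (K98.GmPow.isGmLike_Gm hm) ((Over.forget _).mapIso e)).two (ZMod (ℓ ^ ν))
      (fun x => by rw [nsmul_eq_mul, ZMod.natCast_self, zero_mul]) (t + 2) (by omega)

end gm

end K810.Coh
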