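import Mathlib.GroupTheory.QuotientGroup.Basic
import Mathlib.GroupTheory.Coset.Card
import Mathlib.GroupTheory.Index
import Mathlib.Algebra.Group.Subgroup.Finite

/-!
# Counting
-/

set_option autoImplicit false

namespace K810.Count

theorem card_ker_mul_card_range {A B : Type*} [Group A] [Group B] (f : A →* B) :
    Nat.card f.ker * Nat.card f.range = Nat.card A := by
  rw [mul_comm, Subgroup.card_eq_card_quotient_mul_card_subgroup f.ker,
    Nat.card_congr (QuotientGroup.quotientKerEquivRange f).toEquiv]

/-- The `n`-torsion of an extension by an `n`-divisible group. -/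
theorem card_torsion {A B C : Type*} [CommGroup A] [CommGroup B] [CommGroup C] (f : A →* B) (g : B →* C)
    (hf : Function.Injective f) (hg : Function.Surjective g) (h1 : ∀ a, g (f a) = 1)
    (hex : ∀ b, g b = 1 → ∃ a, f a = b) (n : ℕ) (hdiv : ∀ a : A, ∃ a', a' ^ n = a) :
    Nat.card {b : B // b ^ n = 1} = Nat.card {a : A // a ^ n = 1} * Nat.card {c : C // c ^ n = 1} := by
  let S : Subgroup B := (powMonoidHom n : B →* B).ker
  let R : Subgroup C := (powMonoidHom n : C →* C).ker
  let g' : S →* R := (g.comp S.subtype).codRestrict R (fun s => by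
    have h2 : (s : B) ^ n = 1 := s.2
    change g (s : B) ^ n = 1
    rw [← map_pow, h2, map_one])
  have hsurj : Function.Surjective g' := by
    rintro ⟨c, hc⟩
    have hc' : c ^ n = 1 := hc
    obtain ⟨b, rfl⟩ := hg c
    obtain ⟨a, ha⟩ := hex (b ^ n) (by rw [map_pow, hc'])
    obtain ⟨a', ha'⟩ := hdiv a
    refine ⟨⟨b * (f a')⁻¹, ?_⟩, ?_⟩
    · change (b * (f a')⁻¹) ^ n = 1
      rw [mul_pow, inv_pow, ← map_pow, ha', ha, mul_inv_cancel]
    · apply Subtype.ext
      change g (b * (f a')⁻¹) = g b
      rw [map_mul, map_inv, h1, inv_one, mul_one]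
  have hk : Nat.card g'.ker = Nat.card {a : A // a ^ n = 1} := by
    refine (Nat.card_congr (Equiv.ofBijective (fun a : {a : A // a ^ n = 1} =>
      (⟨⟨f a.1, ?_⟩, ?_⟩ : g'.ker)) ⟨?_, ?_⟩)).symm
    · change (f a.1) ^ n = 1
      rw [← map_pow, a.2, map_one]
    · rw [MonoidHom.mem_ker]
      exact Subtype.ext (h1 _)
    · intro a b hab
      have h2 : f a.1 = f b.1 := congrArg (fun x : g'.ker => ((x : S) : B)) hab
      exact Subtype.ext (hf h2)
    · rintro ⟨⟨b, hb⟩, hb'⟩
      have h2 : g b = 1 := congrArg Subtype.val (MonoidHom.mem_ker.1 hb')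
      obtain ⟨a, rfl⟩ := hex b h2
      refine ⟨⟨a, hf ?_⟩, rfl⟩
      rw [map_pow, map_one]
      exact hb
  have hr : Nat.card g'.range = Nat.card R := by
    rw [MonoidHom.range_eq_top.2 hsurj]
    exact Nat.card_congr Subgroup.topEquiv.toEquiv
  have h2 := card_ker_mul_card_range g'
  rw [hk, hr] at h2
  exact h2.symm

/-- Surjectivity by counting. -/
theorem surjective_of_card {A B C : Type*} [AddCommGroup A] [AddCommGroup B] [AddCommGroup C] (f : A →+ B)
    (g : B →+ C) (hex : ∀ b, g b = 0 → ∃ a, f a = b) {x y : ℕ} (hA : Nat.card A = y) (hC : Nat.card C = x)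
    (hB : Nat.card B = x * y) (hx : 0 < x) (hy : 0 < y) : Function.Surjective g := by
  have fA : Finite A := Nat.finite_of_card_ne_zero (by omega)
  have fC : Finite C := Nat.finite_of_card_ne_zero (by omega)
  have fB : Finite B := Nat.finite_of_card_ne_zero (by
    rw [hB]
    exact (Nat.mul_pos hx hy).ne')
  have h1 : Nat.card g.ker * Nat.card g.range = Nat.card B := by
    rw [mul_comm, AddSubgroup.card_eq_card_quotient_mul_card_addSubgroup g.ker,
      Nat.card_congr (QuotientAddGroup.quotientKerEquivRange g).toEquiv]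
  have h2 : Nat.card g.ker ≤ Nat.card A := by
    have h3 : g.ker ≤ f.range := fun b hb => hex b hb
    have h4 : Nat.card g.ker ≤ Nat.card f.range := Nat.card_le_card_of_injective _ (AddSubgroup.inclusion_injective h3)
    exact h4.trans (Nat.card_le_card_of_surjective f.rangeRestrict f.rangeRestrict_surjective)
  have h5 : x ≤ Nat.card g.range := by
    by_contra hlt
    rw [not_le] at hlt
    have h6 : Nat.card g.ker * Nat.card g.range < x * y := by
      calc _ ≤ y * Nat.card g.range := Nat.mul_le_mul_right _ (h2.trans hA.le)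
        _ < y * x := Nat.mul_lt_mul_of_pos_left hlt hy
        _ = x * y := mul_comm _ _
    rw [h1, hB] at h6
    exact lt_irrefl _ h6
  have h7 : g.range = ⊤ := by
    apply AddSubgroup.eq_top_of_card_eq
    refine le_antisymm (AddSubgroup.card_le_card_addGroup g.range) ?_
    rw [hC]
    exact h5
  exact AddMonoidHom.range_eq_top.1 h7

end K810.Count
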