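import Groth.Agent.EtAdic.K810.Main
import Groth.Agent.EtAdic.K810.Bgm
import Groth.Agent.EtAdic.K810.Bab
import Groth.Agent.EtAdic.K810.Coh
import Groth.Agent.EtAdic.K810.Count
import Groth.Agent.EtAdic.K98.BettiCard
import Groth.Agent.EtAdic.K359.BettiU

/-!
# Betti numbers of extensions of group varieties, from Leray–Hirsch and the counting in degree one
-/

set_option autoImplicit false
universe u

open CategoryTheory CategoryTheory.Limits MonoidalCategory CartesianMonoidalCategory MonObj GrpObj AlgebraicGeometry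
open scoped Groth.Agent.Etcore.EtInst
open Groth.Agent.Etcore.EtInst Groth.Agent.Etcore.PullCoh Groth.Agent.Etcore.HpullCalc Groth.Agent.Etcore.HC

namespace K810.Fin

open Groth.Agent K810.Ex K810.Step K810.Coh Groth.Agent.Sga3.H739.Fpqc Groth.Agent.Sga3.H739.KerPts

variable (k : Type u) [Field k] [IsAlgClosed k] (ℓ : ℕ) [Fact ℓ.Prime]

/-- Cohomology in degree one of commutative group varieties. -/
def HypC : Prop := ∀ (S : Over (Spec (CommRingCat.of k))) [GrpObj S] [IsCommMonObj S] [GVar S] (ν : ℕ),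
  Nat.card (EtCoh.H S.left (EtCoh.const S.left (ZMod (ℓ ^ ν))) 1) =
    (Nat.card {x : 𝟙_ (Over (Spec (CommRingCat.of k))) ⟶ S // x ^ ℓ = 1}) ^ ν

/-- The five term exact sequence. -/
def HypE : Prop := ∀ {K G Q : Over (Spec (CommRingCat.of k))} [GrpObj K] [GrpObj G] [GrpObj Q] [GVar K] [GVar G]
  [GVar Q] (i : K ⟶ G) (π : G ⟶ Q), Seq i π → ∀ (ν : ℕ) (x : HH G.left (EtCoh.const G.left (ZMod (ℓ ^ ν))) 1),
    HC (ZMod (ℓ ^ ν)) i.left 1 x = 0 → ∃ y : HH Q.left (EtCoh.const Q.left (ZMod (ℓ ^ ν))) 1,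
      HC (ZMod (ℓ ^ ν)) π.left 1 y = x

/-- Leray–Hirsch. -/
def HypL : Prop := ∀ {K G Q : Over (Spec (CommRingCat.of k))} [GrpObj K] [GrpObj G] [GrpObj Q] [GVar K] [GVar G]
  [GVar Q] (i : K ⟶ G) (π : G ⟶ Q), Seq i π → (∀ t, Cls ℓ i.left t) → ∀ r : ℕ,
    EtAdic.betti G.left ℓ r = ∑ s ∈ Finset.range (r + 1), EtAdic.betti K.left ℓ s * EtAdic.betti Q.left ℓ (r - s)

variable {k ℓ}

/-- Poincaré series. -/
noncomputable def PP (ℓ : ℕ) [Fact ℓ.Prime] (X : Over (Spec (CommRingCat.of k))) : PowerSeries ℤ :=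
  PowerSeries.mk fun r => (EtAdic.betti X.left ℓ r : ℤ)

omit [IsAlgClosed k] in
theorem coeff_mul (X Y : Over (Spec (CommRingCat.of k))) (r : ℕ) :
    PowerSeries.coeff r (PP ℓ X * PP ℓ Y) =
      ((∑ s ∈ Finset.range (r + 1), EtAdic.betti X.left ℓ s * EtAdic.betti Y.left ℓ (r - s) : ℕ) : ℤ) := by
  rw [PowerSeries.coeff_mul, Finset.Nat.sum_antidiagonal_eq_sum_range_succ_mk, Nat.cast_sum]
  refine Finset.sum_congr rfl fun s _ => ?_
  rw [PP, PP, PowerSeries.coeff_mk, PowerSeries.coeff_mk, Nat.cast_mul]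

omit [IsAlgClosed k] in
theorem PP_eq_iff (G K Q : Over (Spec (CommRingCat.of k))) : PP ℓ G = PP ℓ K * PP ℓ Q ↔
    ∀ r : ℕ, EtAdic.betti G.left ℓ r =
      ∑ s ∈ Finset.range (r + 1), EtAdic.betti K.left ℓ s * EtAdic.betti Q.left ℓ (r - s) := by
  constructor
  · intro h r
    have h1 := congrArg (PowerSeries.coeff r) h
    rw [coeff_mul, PP, PowerSeries.coeff_mk] at h1
    exact_mod_cast h1
  · intro h
    ext r
    rw [coeff_mul, ← h r, PP, PowerSeries.coeff_mk]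

theorem betti_zero (hℓ : (ℓ : k) ≠ 0) (G : Over (Spec (CommRingCat.of k))) [GrpObj G] [GVar G] :
    EtAdic.betti G.left ℓ 0 = 1 := by
  refine K98.BettiCard.betti_eq_of_succ G.left ℓ (fun i => K359.BettiU.finite_Hmod ℓ hℓ G.hom i 1) 0 1 0
    fun ν _ => ?_
  change Nat.card (EtCoh.H G.left (EtCoh.const G.left (ZMod (ℓ ^ (ν + 1)))) 0) =
    ℓ ^ 1 * Nat.card (EtCoh.H G.left (EtCoh.const G.left (ZMod (ℓ ^ ν))) 0)
  rw [Sga5.H650.ConstCount.card_H0_const, Sga5.H650.ConstCount.card_H0_const, Nat.card_zmod, Nat.card_zmod,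
    pow_succ', pow_one]

theorem PP_ne_zero (hℓ : (ℓ : k) ≠ 0) (G : Over (Spec (CommRingCat.of k))) [GrpObj G] [GVar G] : PP ℓ G ≠ 0 := by
  intro h
  have h1 := congrArg (PowerSeries.coeff 0) h
  rw [PP, PowerSeries.coeff_mk, betti_zero hℓ] at h1
  simp at h1

section deg_one

/-- The homomorphism on points. -/
noncomputable def ptsHom {G H : Over (Spec (CommRingCat.of k))} [GrpObj G] [GrpObj H] (f : G ⟶ H) [IsMonHom f]
    (T : Over (Spec (CommRingCat.of k))) : (T ⟶ G) →* (T ⟶ H) where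
  toFun x := x ≫ f
  map_one' := MonObj.one_comp _
  map_mul' a b := MonObj.mul_comp _ _ _

/-- The rational points of `𝔾_m` form a divisible group. -/
theorem gm_div (n : ℕ) (hn : 0 < n)
    (x : 𝟙_ (Over (Spec (CommRingCat.of k))) ⟶ Red.Gm (Spec (CommRingCat.of k))) : ∃ y, y ^ n = x := by
  let e : k ≃+* Γ((𝟙_ (Over (Spec (CommRingCat.of k)))).left, ⊤) :=
    (Scheme.ΓSpecIso (CommRingCat.of k)).symm.commRingCatIsoToRingEquiv
  let χ := Sga3B.DSPts.dsChar x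
  let a : kˣ := Units.map (e.symm : _ →* k) (χ.toHomUnits (Multiplicative.ofAdd 1))
  obtain ⟨b, hb⟩ := IsAlgClosed.exists_pow_nat_eq (a : k) hn
  have hb0 : b ≠ 0 := by
    rintro rfl
    rw [zero_pow hn.ne'] at hb
    exact a.ne_zero hb.symm
  let χ' : Multiplicative ℤ →* Γ((𝟙_ (Over (Spec (CommRingCat.of k)))).left, ⊤) :=
    (e : k →* Γ((𝟙_ (Over (Spec (CommRingCat.of k)))).left, ⊤)).comp
      ((Units.coeHom k).comp (zpowersHom kˣ (Units.mk0 b hb0)))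
  refine ⟨Sga3B.DSPts.dsEquiv _ ℤ χ', ?_⟩
  rw [← map_pow, ← Sga3B.DSPts.dsEquiv_dsChar x]
  congr 1
  refine MonoidHom.ext_mint ?_
  have h1 : χ' (Multiplicative.ofAdd 1) = e b := by simp [χ']
  rw [MonoidHom.pow_apply, h1, ← map_pow, hb]
  change e (e.symm (χ (Multiplicative.ofAdd 1))) = χ (Multiplicative.ofAdd 1)
  rw [RingEquiv.apply_symm_apply]

/-- **Surjectivity of the restriction in degree one.** -/
theorem surjective_one (hC : HypC k ℓ) (hE : HypE k ℓ) {T S S₂ : Over (Spec (CommRingCat.of k))} [GrpObj T]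
    [GrpObj S] [GrpObj S₂] [GVar T] [GVar S] [GVar S₂] [IsCommMonObj T] [IsCommMonObj S] [IsCommMonObj S₂]
    (hS : (Nat.card {x : 𝟙_ (Over (Spec (CommRingCat.of k))) ⟶ T // x ^ ℓ = 1}) ≠ 0)
    (hS₂ : (Nat.card {x : 𝟙_ (Over (Spec (CommRingCat.of k))) ⟶ S₂ // x ^ ℓ = 1}) ≠ 0)
    (j : T ⟶ S) (q : S ⟶ S₂) (h : Seq j q)
    (hdiv : ∀ x : 𝟙_ (Over (Spec (CommRingCat.of k))) ⟶ T, ∃ y, y ^ ℓ = x) (ν : ℕ) :
    Function.Surjective (HC (ZMod (ℓ ^ ν)) j.left 1) := by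
  have hj := h.hi
  have hq := h.hπ
  have hs := h.surj
  have cj := h.ci
  have hm := mono_of_ci j
  have key := K810.Count.card_torsion (ptsHom j (𝟙_ _)) (ptsHom q (𝟙_ _))
    (fun a b hab => (cancel_mono j).1 hab) (fun y => K810.Bgm.exists_lift_pt q y)
    (fun a => by
      change (a ≫ j) ≫ q = 1
      rw [Category.assoc, h.ker.w, ← Category.assoc, comp_toUnit]
      rfl)
    (fun b hb => exists_lift h.ker b hb) ℓ hdiv
  refine K810.Count.surjective_of_card (HC (ZMod (ℓ ^ ν)) q.left 1) (HC (ZMod (ℓ ^ ν)) j.left 1)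
    (fun b hb => hE j q h ν b hb) (hC S₂ ν) (hC T ν) ?_ (pow_pos (Nat.pos_of_ne_zero hS) _)
    (pow_pos (Nat.pos_of_ne_zero hS₂) _)
  rw [← mul_pow, ← key]
  exact hC S ν

end deg_one

/-- The case of `𝔾_m` in degree one. -/
theorem cls_gm_one (hℓ : (ℓ : k) ≠ 0) (hC : HypC k ℓ) (hE : HypE k ℓ)
    (hF : ∀ (S : Over (Spec (CommRingCat.of k))) [GrpObj S] [IsCommMonObj S] [GVar S],
      (Nat.card {x : 𝟙_ (Over (Spec (CommRingCat.of k))) ⟶ S // x ^ ℓ = 1}) ≠ 0)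
    {K G : Over (Spec (CommRingCat.of k))} [GrpObj K] [GrpObj G]
    [GVar K] [GVar G] (i : K ⟶ G) [IsMonHom i] [IsClosedImmersion i.left]
    (e : Red.Gm (Spec (CommRingCat.of k)) ≅ K) [IsMonHom e.hom] (hn : AlgGrp.IsNormalHom i) :
    Cls ℓ i.left 1 := by
  have hK : Red.IsTorus K :=
    Groth.Agent.Sga3B.TorusBc.isTorus_of_iso (Grp.mkIso' e) (Groth.Agent.Sga3B.BorSpan613.isTorus_Gm _)
  have hmi := mono_of_ci i
  have hc := Groth.Agent.S5255.result G K (K810.Cartan.fibres_connected G) i (K18.MTDesc.isMultTypeFT_of_isTorus hK) hn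
  obtain ⟨S, T, S₂, _, _, _, q, p, j, q₂, h1, h2, h3, h4, h5, h6, h7, h8, h9, h10, h11⟩ :=
    K810.Bgm.exists_comm i hK hc
  have hps : Surjective p.left := h9.1
  have hdiv : ∀ x : 𝟙_ (Over (Spec (CommRingCat.of k))) ⟶ T, ∃ y, y ^ ℓ = x := by
    intro x
    obtain ⟨x, rfl⟩ := K810.Bgm.exists_lift_pt p x
    obtain ⟨y, hy⟩ := gm_div ℓ (Fact.out : ℓ.Prime).pos (x ≫ e.inv)
    refine ⟨y ≫ e.hom ≫ p, ?_⟩
    have h12 := (map_pow (ptsHom (e.hom ≫ p) (𝟙_ _)) y ℓ).symm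
    refine h12.trans ?_
    change (y ^ ℓ) ≫ e.hom ≫ p = x ≫ p
    rw [hy, Category.assoc, Iso.inv_hom_id_assoc]
  refine Cls.of_square i.left q.left p.left j.left (by rw [← Over.comp_left, h10, Over.comp_left]) 1
    (cls_isog hℓ p h9 1) fun ν => ?_
  exact surjective_one hC hE (hF T) (hF S₂) j q₂ h11 hdiv ν

/-- **Betti numbers of extensions.** -/
theorem main (hℓ : (ℓ : k) ≠ 0) (hC : HypC k ℓ) (hE : HypE k ℓ) (hL : HypL k ℓ)
    (hF : ∀ (S : Over (Spec (CommRingCat.of k))) [GrpObj S] [IsCommMonObj S] [GVar S],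
      (Nat.card {x : 𝟙_ (Over (Spec (CommRingCat.of k))) ⟶ S // x ^ ℓ = 1}) ≠ 0)
    {K G Q : Over (Spec (CommRingCat.of k))} [GrpObj K] [GrpObj G] [GrpObj Q] [GVar K] [GVar G] [GVar Q]
    (i : K ⟶ G) (π : G ⟶ Q) (h : Seq i π) (r : ℕ) :
    EtAdic.betti G.left ℓ r =
      ∑ s ∈ Finset.range (r + 1), EtAdic.betti K.left ℓ s * EtAdic.betti Q.left ℓ (r - s) := by
  refine (PP_eq_iff (ℓ := ℓ) G K Q).1 (K810.Main.main (P := PP ℓ) ⟨fun G _ _ => PP_ne_zero hℓ G, ?_, ?_, ?_, ?_⟩ i π h) r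
  · intro K G Q _ _ _ _ _ _ i π h r hr
    refine (PP_eq_iff (ℓ := ℓ) G K Q).2 (hL i π h fun t => Cls.of_retract i.left r.left ?_ t)
    rw [← Over.comp_left, hr]
    rfl
  · intro K G Q _ _ _ _ _ _ i π h hK1 hK2 hK3
    exact (PP_eq_iff (ℓ := ℓ) G K Q).2 (hL i π h fun t => cls_unip hℓ hK3 i t)
  · intro K G Q _ _ _ _ _ _ i π h e he
    have hi := h.hi
    have ci := h.ci
    exact (PP_eq_iff (ℓ := ℓ) G K Q).2 (hL i π h fun t => cls_gm hℓ e i t (cls_gm_one hℓ hC hE hF i e h.normal))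
  · intro K G Q _ _ _ _ _ _ i π h hK
    have hi := h.hi
    have ci := h.ci
    refine (PP_eq_iff (ℓ := ℓ) G K Q).2 (hL i π h fun t => ?_)
    obtain ⟨B, _, q, hB, hq, hiso⟩ := K810.Bab.exists_isog i
    refine Cls.of_comp i.left q.left t ?_
    rw [← Over.comp_left]
    exact cls_isog hℓ (i ≫ q) hiso t

end K810.Fin
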