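import Groth.Agent.EtAdic.K810.Derived
import Groth.Agent.EtAdic.K810.Torus
import Groth.Agent.S4121
import Groth.Agent.S4122
import Groth.Agent.S3919
import Groth.Agent.S3929
import Groth.Agent.Sga3B.BorSpan613
import Groth.Agent.Sga3B.TorusBc

/-!
# Additive invariants of group varieties: the induction

An invariant `P` of group varieties with values in `ℤ⟦t⟧` which is multiplicative on the exact sequences with a
retraction onto the kernel, or whose kernel is commutative unipotent, `𝔾_m` or an abelian variety, is multiplicative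
on all exact sequences.
-/

set_option autoImplicit false
universe u

open CategoryTheory CategoryTheory.Limits MonoidalCategory CartesianMonoidalCategory MonObj GrpObj AlgebraicGeometry

namespace K810.Main

open Groth.Agent.Sga3.H739.Fpqc Groth.Agent.Sga3.H739.KerPts K810.Ex K810.Step K810.Cartan K810.Torus K810.Trick
open Groth.Agent Groth.Agent.Books.AlgPts Groth.Agent.Books.AlgPtsGrp

variable {k : Type u} [Field k] [IsAlgClosed k]
variable {P : Over (Spec (CommRingCat.of k)) → PowerSeries ℤ}
variable {K G Q : Over (Spec (CommRingCat.of k))} [GrpObj K] [GrpObj G] [GrpObj Q] [GVar K] [GVar G] [GVar Q]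

omit [IsAlgClosed k] in
theorem exists_maxTorus [IsAffine K.left] :
    ∃ (T : Over (Spec (CommRingCat.of k))) (_ : GrpObj T) (t : T ⟶ K), AGF.IsMaxTorus t := by
  obtain ⟨T, _, t, ht⟩ := Groth.Agent.S4121.result k K
  have h1 := ht.1
  have h2 := ht.2.1
  exact ⟨T, inferInstance, t, (Groth.Agent.S3919.result k K T t ht.2.2.1).2 ht⟩

/-- A central maximal torus is the unique maximal torus. -/
theorem exists_iso_of_central [IsAffine K.left] {T T' : Over (Spec (CommRingCat.of k))} [GrpObj T] [GrpObj T']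
    {t : T ⟶ K} {t' : T' ⟶ K} (ht : AGF.IsMaxTorus t) (ht' : AGF.IsMaxTorus t')
    (hc : ∀ (X : Over (Spec (CommRingCat.of k))) (x : X ⟶ K) (y : X ⟶ T), x * (y ≫ t) = (y ≫ t) * x) :
    ∃ f : T ≅ T', f.hom ≫ t' = t := by
  obtain ⟨g, f, hf⟩ := Groth.Agent.S3901.result k K T T' t t' ht ht'
  refine ⟨f, ?_⟩
  rw [hf, AGF.conjBy]
  have h1 := hc T (toUnit T ≫ g) (𝟙 T)
  rw [Category.id_comp] at h1
  rw [h1, mul_inv_cancel_right]

/-- The nilpotent case without tori. -/
theorem unipotent (hyp : Hyp P) (ih : IH P K) {i : K ⟶ G} {π : G ⟶ Q} (h : Seq i π) [IsAffine K.left]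
    (hnil : AGF.IsNilpotentGrp K) (hsub : Red.HasNoSubtorus k K) : P G = P K * P Q := by
  by_cases hc : IsCommMonObj K
  · exact hyp.unip i π h hc inferInstance hsub
  have hn : Group.IsNilpotent (𝟙_ (Over (Spec (CommRingCat.of k))) ⟶ K) := by
    obtain ⟨n, hn⟩ := hnil
    exact ⟨n, hn _⟩
  obtain ⟨D, D₀, _, _, d, m, h1, h2, h3, h4, h5, h6, h7, h8, h9, h10⟩ := K810.Derived.exists_derived hn hc
  have hi := h.hi
  have ci := h.ci
  have hdn := normal_of_char h d h8
  have hcl : IsClosedImmersion (d ≫ i).left := by rw [Over.comp_left]; infer_instance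
  have hcl' : IsClosedImmersion (m ≫ d).left := by rw [Over.comp_left]; infer_instance
  have hmn := Groth.Agent.Sga3.H794.RedIdNormal.isNormalHom_of_redIdComp (d ≫ i) hdn m h7
  exact step ih h (m ≫ d) (by rw [Category.assoc]; exact hmn) h9 h10

/-- The case of a torus. -/
theorem torus (hyp : Hyp P) (ih : IH P K) {i : K ⟶ G} {π : G ⟶ Q} (h : Seq i π) (hK : Red.IsTorus K)
    (hKn : ¬ IsIso K.hom) : P G = P K * P Q := by
  have hi := h.hi
  have ci := h.ci
  have hmi := mono_of_ci i
  have hcent := Groth.Agent.S5255.result G K (fibres_connected G) i (K18.MTDesc.isMultTypeFT_of_isTorus hK) h.normal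
  rcases exists_gm hK with h1 | ⟨j, r, hj, hr, hjr⟩
  · exact absurd h1 hKn
  have hcl : IsClosedImmersion j.left := isClosedImmersion_of_retract j r hjr
  have hGm : GVar (Red.Gm (Spec (CommRingCat.of k))) :=
    gvar_of_isTorus (Groth.Agent.Sga3B.BorSpan613.isTorus_Gm _)
  by_cases hji : IsIso j
  · exact hyp.gm i π h (asIso j) hj
  · refine step ih h j (fun X g x => ⟨x, ?_⟩) not_isIso_gm hji
    have h2 := hcent X g (x ≫ j)
    rw [← Category.assoc, h2, mul_inv_cancel_right]

/-- The affine case. -/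
theorem affine (hyp : Hyp P) (ih : IH P K) {i : K ⟶ G} {π : G ⟶ Q} (h : Seq i π) [IsAffine K.left]
    (hKn : ¬ IsIso K.hom) : P G = P K * P Q := by
  obtain ⟨T, _, t, ht⟩ := exists_maxTorus (K := K)
  obtain ⟨M, I, _, _, c, e₀, c', hM, hI, hc, hcc, hs, he₀, hc', hpb, hcent⟩ := exists_cartan h ht
  have hcie : IsClosedImmersion e₀.left :=
    MorphismProperty.of_isPullback (P := @IsClosedImmersion) (hpb.map (Over.forget _)).flip hcc
  by_cases he : IsIso e₀
  · have hc : ∀ (X : Over (Spec (CommRingCat.of k))) (x : X ⟶ K) (y : X ⟶ T), x * (y ≫ t) = (y ≫ t) * x := by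
      intro X x y
      have h1 := (hcent.2.2 X x).1 ⟨x ≫ inv e₀, by rw [Category.assoc, IsIso.inv_hom_id, Category.comp_id]⟩ X (𝟙 X) y
      rw [Category.id_comp] at h1
      exact h1
    have hTv : GVar T := gvar_of_isTorus ht.2.2.1
    have htm := ht.1
    have htmono := ht.2.1
    have hqc := qc_left t
    have hcl : IsClosedImmersion t.left := Groth.Agent.S3036.result k T K t
    have hchar : ∀ u : K ≅ K, IsMonHom u.hom → ∃ φ : T ⟶ T, φ ≫ t = t ≫ u.hom := by
      intro u hu
      obtain ⟨f, hf⟩ := exists_iso_of_central ht (isMaxTorus_comp ht u) hc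
      exact ⟨f.inv, by rw [Iso.inv_comp_eq, hf]⟩
    by_cases hti : IsIso t
    · refine torus hyp ih h ?_ hKn
      have : IsMonHom (asIso t).hom := htm
      exact Groth.Agent.Sga3B.TorusBc.isTorus_of_iso (Grp.mkIso' (asIso t)) ht.2.2.1
    by_cases hTt : IsIso T.hom
    · refine unipotent hyp ih h ?_ ?_
      · refine Groth.Agent.S3929.result k K fun T₁ T₂ _ _ t₁ t₂ h₁ h₂ => ?_
        obtain ⟨f₁, hf₁⟩ := exists_iso_of_central ht h₁ hc
        obtain ⟨f₂, hf₂⟩ := exists_iso_of_central ht h₂ hc
        exact ⟨f₁.symm ≪≫ f₂, by rw [Iso.trans_hom, Iso.symm_hom, Category.assoc, hf₂, ← hf₁, Iso.inv_hom_id_assoc]⟩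
      · intro R _ j _ _ hR
        obtain ⟨T', _, t', f, ht', hf⟩ := (Groth.Agent.S4122.result k K).2 R j hR
        have h1 := ht'.1
        have h2 := ht'.2.1
        obtain ⟨e, he⟩ := exists_iso_of_central ht ((Groth.Agent.S3919.result k K T' t' ht'.2.2.1).2 ht') hc
        have hfm : Mono f := by
          have : Mono (f ≫ t') := by rw [hf]; infer_instance
          exact mono_of_mono f t'
        have hTu : Mono (toUnit T) := by
          have : IsIso (toUnit T).left := by rw [Over.toUnit_left]; exact hTt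
          have := isIso_of_left (toUnit T)
          infer_instance
        have h4 : 𝟙 R = toUnit R ≫ η[R] := by
          rw [← cancel_mono f, ← cancel_mono e.inv, ← cancel_mono (toUnit T)]
          exact toUnit_unique _ _
        have h5 : η[R] ≫ toUnit R = 𝟙 _ := toUnit_unique _ _
        have h6 : IsIso (toUnit R) := ⟨η[R], h4.symm, h5⟩
        have h7 : IsIso (toUnit R).left := inferInstanceAs (IsIso ((Over.forget _).map (toUnit R)))
        rw [Over.toUnit_left] at h7
        exact h7
    · exact step ih h t (normal_of_char h t hchar) hTt hti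
  · obtain ⟨s1, P', _, a, b, r, d, φ, hP', s2, hr, s3⟩ := exists_trick h c e₀ c' hpb
    have hdim := dim_lt_of_not_isIso e₀ he
    have e1 := ih _ _ _ _ _ s1 hdim
    have e2 := hyp.retr a b s2 r hr
    have e3 := ih _ _ _ _ _ s3 hdim
    have hne := hyp.ne I
    apply mul_left_cancel₀ hne
    rw [← e3, e2, e1]
    ring

/-- **The induction.** -/
theorem main (hyp : Hyp P) (i : K ⟶ G) (π : G ⟶ Q) (h : Seq i π) : P G = P K * P Q := by
  suffices H : ∀ (d : WithBot ℕ∞) (K G Q : Over (Spec (CommRingCat.of k))) [GrpObj K] [GrpObj G] [GrpObj Q]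
      [GVar K] [GVar G] [GVar Q] (i : K ⟶ G) (π : G ⟶ Q), Seq i π → topologicalKrullDim K.left = d →
      P G = P K * P Q from H _ K G Q i π h rfl
  intro d
  induction d using WellFoundedLT.induction with
  | _ d ih =>
  intro K G Q _ _ _ _ _ _ i π h hd
  subst hd
  have ih' : IH P K := fun K' G' Q' _ _ _ _ _ _ i' π' h' hlt => ih _ hlt K' G' Q' i' π' h' rfl
  by_cases hK : IsIso K.hom
  · exact of_trivial hyp h hK
  rcases chev (K := K) with haff | hprop | ⟨L, _, l, hL, hl1, hl2, hl3, hl4, hl5⟩
  · exact affine hyp ih' h hK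
  · exact hyp.ab i π h hprop
  · exact step ih' h l (normal_of_char h l hl5) hl3 hl4

end K810.Main
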