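import Groth.Agent.EtAdic.K810.Basic
import Groth.Agent.EtAdic.K810.Trick
import Groth.Agent.EtAdic.K810.Cartan
import Groth.Agent.S10830
import Groth.Agent.S4141
import Groth.Agent.Sga3B.RG.BrPts
import Groth.Agent.S3283
import Mathlib.RingTheory.PowerSeries.Basic

/-!
# Additive invariants of group varieties: the reduction steps
-/

set_option autoImplicit false
universe u

open CategoryTheory CategoryTheory.Limits MonoidalCategory CartesianMonoidalCategory MonObj GrpObj AlgebraicGeometry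

namespace K810.Step

open Groth.Agent.Sga3.H739.Fpqc Groth.Agent.Sga3.H739.KerPts K810.Ex
open Groth.Agent Groth.Agent.Books.AlgPts Groth.Agent.Books.AlgPtsGrp
open Groth.Agent.Sga3.H794.ChevInd

variable {k : Type u} [Field k]

theorem irr (G : Over (Spec (CommRingCat.of k))) [GrpObj G] [GVar G] : IrreducibleSpace G.left := by
  have h1 : GrpObj (Over.mk G.hom) := inferInstanceAs (GrpObj G)
  have : GeometricallyIrreducible G.hom :=
    Groth.Agent.Sga3C.GrpIrr.geometricallyIrreducible_of_connectedSpace G.hom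
  exact GeometricallyIrreducible.irreducibleSpace_of_subsingleton G.hom

theorem red (G : Over (Spec (CommRingCat.of k))) [GrpObj G] [GVar G] : IsReduced G.left :=
  Groth.Agent.Flat2B.SmoothGeom.isReduced_of_smooth G.hom

theorem isIso_of_left {X Y : Over (Spec (CommRingCat.of k))} (f : X ⟶ Y) [h : IsIso f.left] : IsIso f := by
  have : IsIso ((Over.forget _).map f) := h
  exact isIso_of_reflects_iso f (Over.forget _)

/-- A proper closed subgroup has smaller dimension. -/
theorem dim_lt_of_not_isIso {X K : Over (Spec (CommRingCat.of k))} [GrpObj K] [GVar K] (j : X ⟶ K)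
    [IsClosedImmersion j.left] (h : ¬ IsIso j) :
    topologicalKrullDim X.left < topologicalKrullDim K.left := by
  have hirr := irr K
  have hred := red K
  have hfin : topologicalKrullDim K.left ≠ ⊤ := by
    obtain ⟨d, hd, -⟩ := Groth.Agent.Fdesc.GrpDimHom.rtd_eq K
    rw [hd]
    exact (WithBot.coe_lt_coe.mpr (ENat.natCast_lt_top d)).ne
  have hne : Set.range j.left ≠ Set.univ := by
    intro hu
    apply h
    have hs : Surjective j.left := ⟨Set.range_eq_univ.mp hu⟩
    have : IsIso j.left := isIso_of_isClosedImmersion_of_surjective _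
    exact isIso_of_left j
  have h1 := Groth.Agent.S10830.result K.left hfin (Set.range j.left) j.left.isClosedEmbedding.isClosed_range hne
  have h2 : topologicalKrullDim X.left = topologicalKrullDim (Set.range j.left) :=
    IsHomeomorph.topologicalKrullDim_eq _
      (j.left.isClosedEmbedding.isEmbedding.toHomeomorph).isHomeomorph
  rw [h2]
  exact h1

/-- The hypotheses on an invariant of group varieties. -/
structure Hyp (P : Over (Spec (CommRingCat.of k)) → PowerSeries ℤ) : Prop where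
  ne : ∀ (G : Over (Spec (CommRingCat.of k))) [GrpObj G] [GVar G], P G ≠ 0
  retr : ∀ {K G Q : Over (Spec (CommRingCat.of k))} [GrpObj K] [GrpObj G] [GrpObj Q] [GVar K] [GVar G] [GVar Q]
    (i : K ⟶ G) (π : G ⟶ Q), Seq i π → ∀ r : G ⟶ K, i ≫ r = 𝟙 K → P G = P K * P Q
  unip : ∀ {K G Q : Over (Spec (CommRingCat.of k))} [GrpObj K] [GrpObj G] [GrpObj Q] [GVar K] [GVar G] [GVar Q]
    (i : K ⟶ G) (π : G ⟶ Q), Seq i π → IsCommMonObj K → IsAffine K.left → Red.HasNoSubtorus k K →
      P G = P K * P Q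
  gm : ∀ {K G Q : Over (Spec (CommRingCat.of k))} [GrpObj K] [GrpObj G] [GrpObj Q] [GVar K] [GVar G] [GVar Q]
    (i : K ⟶ G) (π : G ⟶ Q), Seq i π → ∀ e : Red.Gm (Spec (CommRingCat.of k)) ≅ K, IsMonHom e.hom →
      P G = P K * P Q
  ab : ∀ {K G Q : Over (Spec (CommRingCat.of k))} [GrpObj K] [GrpObj G] [GrpObj Q] [GVar K] [GVar G] [GVar Q]
    (i : K ⟶ G) (π : G ⟶ Q), Seq i π → IsProper K.hom → P G = P K * P Q

/-- The induction hypothesis. -/
def IH (P : Over (Spec (CommRingCat.of k)) → PowerSeries ℤ) (K : Over (Spec (CommRingCat.of k))) : Prop :=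
  ∀ (K' G' Q' : Over (Spec (CommRingCat.of k))) [GrpObj K'] [GrpObj G'] [GrpObj Q'] [GVar K'] [GVar G'] [GVar Q']
    (i : K' ⟶ G') (π : G' ⟶ Q'), Seq i π → topologicalKrullDim K'.left < topologicalKrullDim K.left →
      P G' = P K' * P Q'

variable {P : Over (Spec (CommRingCat.of k)) → PowerSeries ℤ}
variable {K G Q : Over (Spec (CommRingCat.of k))} [GrpObj K] [GrpObj G] [GrpObj Q] [GVar K] [GVar G] [GVar Q]

/-- Trivial kernels. -/
theorem of_trivial (hyp : Hyp P) {i : K ⟶ G} {π : G ⟶ Q} (h : Seq i π) (hK : IsIso K.hom) :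
    P G = P K * P Q := by
  have h1 : IsIso (toUnit K) := by
    have : IsIso (toUnit K).left := by rw [Over.toUnit_left]; exact hK
    exact isIso_of_left _
  refine hyp.retr i π h (toUnit G ≫ η[K]) ?_
  rw [← cancel_mono (toUnit K)]
  exact toUnit_unique _ _

/-- Decomposing the kernel. -/
theorem step [IsAlgClosed k] (ih : IH P K) {i : K ⟶ G} {π : G ⟶ Q} (h : Seq i π)
    {K₁ : Over (Spec (CommRingCat.of k))} [GrpObj K₁] [GVar K₁] (j : K₁ ⟶ K) [IsMonHom j]
    [IsClosedImmersion j.left] (hn : AlgGrp.IsNormalHom (j ≫ i)) (h1 : ¬ IsIso K₁.hom) (h2 : ¬ IsIso j) :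
    P G = P K * P Q := by
  obtain ⟨K₂, G₁, _, _, p, q, i', π', hK₂, hG₁, s1, s2, s3⟩ := exists_third h j hn
  have d1 := dim_lt_of_not_isIso j h2
  have hp := s1.hπ
  have hps := s1.surj
  have hpq := qc_left p
  have d2 : topologicalKrullDim K₂.left < topologicalKrullDim K.left :=
    dim_lt j p s1.ker (one_le_dim_of_not_isIso K₁ h1)
  rw [ih _ _ _ _ _ s1 d1, ih _ _ _ _ _ s2 d1, ih _ _ _ _ _ s3 d2, _root_.mul_assoc]

omit [GVar K] [GVar Q] in
/-- Characteristic subgroups of the kernel are normal. -/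
theorem normal_of_char [IsAlgClosed k] {i : K ⟶ G} {π : G ⟶ Q} (h : Seq i π)
    {L : Over (Spec (CommRingCat.of k))} [GrpObj L] [Smooth L.hom] (l : L ⟶ K) [IsClosedImmersion l.left]
    (hchar : ∀ γ : K ≅ K, IsMonHom γ.hom → ∃ φ : L ⟶ L, φ ≫ l = l ≫ γ.hom) :
    AlgGrp.IsNormalHom (l ≫ i) := by
  have hi := h.hi
  have ci := h.ci
  have hm := mono_of_ci i
  have hcl : IsClosedImmersion (l ≫ i).left := by rw [Over.comp_left]; infer_instance
  refine Groth.Agent.Sga3B.RG.BrPts.isNormalHom_of_points (l ≫ i) fun g n => ?_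
  obtain ⟨γ, hγ1, hγ2⟩ := K810.Cartan.exists_inner i h.normal g
  obtain ⟨φ, hφ⟩ := hchar γ hγ1
  refine ⟨n ≫ φ, ?_⟩
  have h1 := K810.Cartan.comp_conjBy i g (n ≫ l)
  rw [← hγ2, toUnit_unique (toUnit (𝟙_ _)) (𝟙 _), Category.id_comp] at h1
  simp only [Category.assoc] at h1 ⊢
  rw [← h1, reassoc_of% hφ]

omit [GVar K] [GVar G] [GVar Q] in
theorem mono_of_trivial_ker (i : K ⟶ G) (π : G ⟶ Q) [IsMonHom i] [IsMonHom π] (h : AlgGrp.IsKernel i π)
    (hK : IsIso K.hom) : Mono π := by
  have h1 : IsIso (toUnit K) := by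
    have : IsIso (toUnit K).left := by rw [Over.toUnit_left]; exact hK
    exact isIso_of_left _
  refine ⟨fun {T} a b hab => ?_⟩
  obtain ⟨c, hc⟩ := exists_lift h (a * b⁻¹) (by rw [MonObj.mul_comp, GrpObj.inv_comp, hab, mul_inv_cancel])
  have h2 : c = 1 := by
    rw [← cancel_mono (toUnit K)]
    exact toUnit_unique _ _
  rw [h2, MonObj.one_comp] at hc
  exact (eq_of_mul_inv_eq_one hc.symm)

omit [GrpObj G] [GVar G] [GrpObj Q] [GVar Q] in
/-- Chevalley: affine, proper, or a proper non-trivial characteristic subgroup. -/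
theorem chev [IsAlgClosed k] : IsAffine K.left ∨ IsProper K.hom ∨
    ∃ (L : Over (Spec (CommRingCat.of k))) (_ : GrpObj L) (l : L ⟶ K), GVar L ∧ IsMonHom l ∧
      IsClosedImmersion l.left ∧ ¬ IsIso L.hom ∧ ¬ IsIso l ∧
      ∀ γ : K ≅ K, IsMonHom γ.hom → ∃ φ : L ⟶ L, φ ≫ l = l ≫ γ.hom := by
  obtain ⟨L, _, l, A, _, q, h1, h2, h3, h4, h5, h6, h7, h8, h9, h10, h11, h12, h13, h14⟩ :=
    Groth.Agent.S4141.result k K
  have hLq : QuasiCompact L.hom := by rw [← Over.w l]; infer_instance
  have hLv : GVar L := ⟨h4, hLq, h5⟩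
  by_cases ha : IsIso l
  · have : IsIso l.left := inferInstanceAs (IsIso ((Over.forget _).map l))
    exact Or.inl (IsAffine.of_isIso (inv l.left))
  by_cases hb : IsIso L.hom
  · refine Or.inr (Or.inl ?_)
    have hm := mono_of_trivial_ker l q h10 hb
    have : Mono q.left := inferInstanceAs (Mono ((Over.forget _).map q))
    have := qc_left q
    have : IsIso q.left := AlgebraicGeometry.Flat.isIso_of_surjective_of_mono q.left
    rw [← Over.w q]
    infer_instance
  refine Or.inr (Or.inr ⟨L, inferInstance, l, hLv, h1, h2, hb, ha, fun γ hγ => ?_⟩)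
  have hγi : IsMonHom γ.inv := inferInstance
  have hγl : IsIso γ.hom.left := inferInstanceAs (IsIso ((Over.forget _).map γ.hom))
  have hγil : IsIso γ.inv.left := inferInstanceAs (IsIso ((Over.forget _).map γ.inv))
  have hnorm : AlgGrp.IsNormalHom (l ≫ γ.hom) := by
    intro X g x
    obtain ⟨y, hy⟩ := h6 X (g ≫ γ.inv) x
    refine ⟨y, ?_⟩
    have := congrArg (fun f => f ≫ γ.hom) hy
    simp only [MonObj.mul_comp, GrpObj.inv_comp, Category.assoc, Iso.inv_hom_id, Category.comp_id] at this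
    exact this
  have hml := mono_of_ci l
  have hml' : Mono (l ≫ γ.hom) := mono_comp _ _
  have hker : AlgGrp.IsKernel (l ≫ γ.hom) (γ.inv ≫ q) := by
    refine isPullback_of_pts ?_ fun {T} x hx => ?_
    · rw [Category.assoc, Iso.hom_inv_id_assoc, h10.w]
    · obtain ⟨a, ha⟩ := exists_lift h10 (x ≫ γ.inv) (by rw [Category.assoc]; exact hx)
      exact ⟨a, by rw [← Category.assoc, ha, Category.assoc, Iso.inv_hom_id, Category.comp_id]⟩
  obtain ⟨φ, hφ⟩ := h14 L (l ≫ γ.hom) A (γ.inv ≫ q) inferInstance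
    (by rw [Over.comp_left]; infer_instance) h3 h4 h5 hnorm inferInstance (by rw [Over.comp_left]; infer_instance)
    (by rw [Over.comp_left]; infer_instance) hker h11 h12 h13
  exact ⟨φ.hom, hφ⟩

end K810.Step
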